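import Groth.Agent.Mum71.SchemeModel
import Groth.Agent.S2380
import Groth.Agent.Crv77.Sections
import Groth.Agent.FBase64.ReducedModField
import Groth.Agent.FlatMor68.FibreFree
import Groth.Agent.Coh69.Grothendieck
import Groth.Agent.Mero90.Frames
import Groth.Agent.Amp73.PullTensor

/-!
Semicontinuity: for an invertible module on a flat proper scheme over a locally Noetherian base, the
points whose fibre carries no nonzero section form an open set.
-/

set_option autoImplicit false
set_option maxSynthPendingDepth 6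
set_option linter.style.haveILetI false
set_option backward.isDefEq.respectTransparency.types false

noncomputable section

universe u

open CategoryTheory Limits AlgebraicGeometry TopologicalSpace Opposite

namespace Groth.Agent.Cube73

/-- An invertible module on a flat scheme is flat over the base. -/
theorem isFlatOver_of_isInvertible {X Y : Scheme.{u}} (f : X ⟶ Y) [Flat f] {L : X.Modules}
    (hL : PicF.IsInvertible L) : FlatMod.IsFlatOver f L := by
  intro x
  obtain ⟨U, hx, ⟨e⟩⟩ := hL x
  haveI : CohB1.IsFP L :=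
    Props58.LocFree.isFP_of_isFinLocFree (fun y => by
      obtain ⟨V, hy, h⟩ := Mero90.isFinLocFreeOfRank_of_isInvertible hL y
      exact ⟨V, 1, hy, h⟩)
  have h1 : Module.Free (U.toScheme.presheaf.stalk ⟨x, hx⟩)
      (((Scheme.Modules.pullback U.ι).obj L).presheaf.stalk ⟨x, hx⟩) :=
    (FlatMor68.FibreFree.free_stalk_iff_of_iso (((Scheme.Modules.restrictFunctorIsoPullback U.ι).app L).symm ≪≫ e) _).2
      (Module.Free.of_equiv (QC70.unitStalkEquiv (X := U.toScheme) ⟨x, hx⟩))
  have h2 : Module.Free (X.presheaf.stalk x) (L.presheaf.stalk x) :=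
    FlatMor68.FibreFree.free_of_free_pullback U.ι L ⟨x, hx⟩ (Flat.stalkMap _ _) h1
  unfold FlatMod.IsFlatOverAt
  letI := FlatMod.moduleStalkOver f L x
  letI : Algebra (Y.presheaf.stalk (f x)) (X.presheaf.stalk x) := (f.stalkMap x).hom.toAlgebra
  haveI : Module.Flat (Y.presheaf.stalk (f x)) (X.presheaf.stalk x) := Flat.stalkMap f x
  haveI : IsScalarTower (Y.presheaf.stalk (f x)) (X.presheaf.stalk x) (L.presheaf.stalk x) :=
    .of_algebraMap_smul fun _ _ => rfl
  exact Module.Flat.trans (Y.presheaf.stalk (f x)) (X.presheaf.stalk x) (L.presheaf.stalk x)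

/-- The fibre over a point carries no nonzero section. -/
def NoSec {X Y : Scheme.{u}} (f : X ⟶ Y) (L : X.Modules) (y : Y) : Prop :=
  Subsingleton Γ((Scheme.Modules.pullback (f.fiberι y)).obj L, ⊤)

theorem noSec_iff {X Y : Scheme.{u}} (f : X ⟶ Y) (L : X.Modules) (y : Y) :
    NoSec f L y ↔ Subsingleton (CohIII.fiberH f L y 0) :=
  ⟨fun h => @Equiv.subsingleton _ _ (Crv77.sec _).toEquiv h,
    fun h => @Equiv.subsingleton _ _ (Crv77.sec _).symm.toEquiv h⟩

/-- The points whose fibre carries no nonzero section form an open set. -/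
theorem isOpen_noSec {X Y : Scheme.{u}} (f : X ⟶ Y) [IsProper f] [Flat f] [IsLocallyNoetherian Y]
    {L : X.Modules} (hL : PicF.IsInvertible L) : IsOpen {y | NoSec f L y} := by
  haveI : IsLocallyNoetherian X := LocallyOfFiniteType.isLocallyNoetherian f
  refine isOpen_iff_forall_mem_open.2 fun y hy => ?_
  obtain ⟨V, hV, hyV, -⟩ := exists_isAffineOpen_mem_and_subset (X := Y) (x := y) (U := ⊤) trivial
  haveI : IsNoetherianRing Γ(Y, V) := IsLocallyNoetherian.component_noetherian ⟨V, hV⟩
  obtain ⟨P, N, hP, -, -, -, hfib⟩ :=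
    Mum71.exists_local_model f hV L (Amp73.isCoh_of_isInvertible hL) (isFlatOver_of_isInvertible f hL)
  have ho := (hV.isoSpec.hom.continuous).isOpen_preimage _
    ((upperSemicontinuous_iff_isOpen_preimage.1 (S2380.result P hP (-((0 : ℕ) : ℤ)))) 1)
  refine ⟨V.ι '' (hV.isoSpec.hom ⁻¹' (CohIII.dRank P (-((0 : ℕ) : ℤ)) ⁻¹' Set.Iio 1)), ?_,
    V.ι.isOpenEmbedding.isOpenMap _ ho, ⟨⟨y, hyV⟩, ?_, rfl⟩⟩
  · rintro _ ⟨⟨w, hw⟩, h, rfl⟩
    exact (noSec_iff f L w).2 ((hfib 0 w hw).2.2 (Nat.lt_one_iff.1 h))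
  · exact Nat.lt_one_iff.2 ((hfib 0 y hyV).2.1 ((noSec_iff f L y).1 hy))

end Groth.Agent.Cube73
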