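import Groth.Agent.LimTop61.PullSec
import Groth.Agent.AbVar93.TrivDescent
import Groth.Agent.Amp73.PullTensor

/-!
Trivialisations of an invertible module rigidified along a section glue.
-/

set_option autoImplicit false
set_option linter.style.haveILetI false
set_option backward.isDefEq.respectTransparency.types false

noncomputable section

universe u

open CategoryTheory Limits AlgebraicGeometry TopologicalSpace Opposite
open Groth.Agent.Var76

namespace Groth.Agent.Cube73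

open QC70 QCPull72

variable {P Z : Scheme.{u}}

theorem iso_of_frame {L : P.Modules} {e : Γ(L, ⊤)} (he : LineBundle.IsFrame L ⊤ e) :
    Nonempty (L ≅ Coh.structureModule P) := by
  have : IsIso (EGA73.unitHom L e) := by
    rw [Scheme.Modules.Hom.isIso_iff_isIso_app]
    intro W
    refine (ConcreteCategory.isIso_iff_bijective _).2 ?_
    have h := he W le_top
    have e' : ((EGA73.unitHom L e).app W : Γ(Coh.structureModule P, W) → Γ(L, W)) =
        fun a => (show Γ(P, W) from a) • LineBundle.res L le_top e := funext fun a => EGA73.unitHom_app L e W a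
    rw [show ((EGA73.unitHom L e).app W : Γ(Coh.structureModule P, W) → Γ(L, W)) = _ from e']
    exact h
  exact ⟨(asIso (EGA73.unitHom L e)).symm⟩

theorem exists_frame_of_iso {L : P.Modules} (i : L ≅ Coh.structureModule P) :
    ∃ e : Γ(L, ⊤), LineBundle.IsFrame L ⊤ e := by
  refine ⟨i.inv.app ⊤ (show Γ(Coh.structureModule P, ⊤) from (1 : Γ(P, ⊤))), AbVar93.isFrame_of_iso_unit i _ ?_⟩
  have := ConcreteCategory.congr_hom (congrArg (fun k => Scheme.Modules.Hom.app k ⊤) i.inv_hom_id)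
    (show Γ(Coh.structureModule P, ⊤) from (1 : Γ(P, ⊤)))
  rw [show (show Γ(P, ⊤) from i.hom.app ⊤ (i.inv.app ⊤ (show Γ(Coh.structureModule P, ⊤) from (1 : Γ(P, ⊤))))) = 1 from this]
  exact isUnit_one

variable (f : P ⟶ Z) (σ : Z ⟶ P) (hσ : σ ≫ f = 𝟙 Z)

include hσ in
theorem appLE_section {U : Z.Opens} (e : U ≤ σ ⁻¹ᵁ (f ⁻¹ᵁ U)) (v : Γ(Z, U)) :
    σ.appLE (f ⁻¹ᵁ U) U e (f.app U v) = v := by
  have h := Scheme.Hom.appLE_comp_appLE σ f U (f ⁻¹ᵁ U) U le_rfl e
  rw [← Scheme.Hom.app_eq_appLE] at h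
  simp only [hσ] at h
  rw [show (𝟙 Z : Z ⟶ Z).appLE U U (by simp) = 𝟙 _ by
    rw [Scheme.Hom.appLE, Scheme.Hom.id_app]
    exact (Category.id_comp _).trans (Z.presheaf.map_id _)] at h
  exact ConcreteCategory.congr_hom h v

include hσ in
theorem le_section (U : Z.Opens) : U ≤ σ ⁻¹ᵁ (f ⁻¹ᵁ U) := by
  intro t ht
  show (σ ≫ f) t ∈ U
  rw [hσ]
  exact ht

/-- An invertible module trivial along a section and locally trivial over the base is trivial, when only
functions from the base are functions upstairs. -/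
theorem trivial_of_local {L : P.Modules} (hL : PicF.IsInvertible L)
    (hf : ∀ U : Z.Opens, Function.Bijective (f.app U)) (σ : Z ⟶ P) (hσ : σ ≫ f = 𝟙 Z)
    (hσL : Nonempty ((Scheme.Modules.pullback σ).obj L ≅ Coh.structureModule Z))
    (hloc : ∀ z : Z, ∃ U : Z.Opens, z ∈ U ∧ ∃ e : Γ(L, f ⁻¹ᵁ U), LineBundle.IsFrame L (f ⁻¹ᵁ U) e) :
    Nonempty (L ≅ Coh.structureModule P) := by
  obtain ⟨eσ, heσ⟩ := exists_frame_of_iso hσL.some
  haveI : L.IsQuasicoherent := Mero90.isQCoh_of_isInvertible hL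
  choose U hzU e he using hloc
  have hle : ∀ z, U z ≤ σ ⁻¹ᵁ (f ⁻¹ᵁ U z) := fun z => le_section f σ hσ (U z)
  let N := (Scheme.Modules.pullback σ).obj L
  choose u hu using fun z => (heσ (U z) le_top).2 (unitSec σ L (hle z) (e z))
  have huu : ∀ z, IsUnit (u z) := by
    intro z
    refine (Amp73.isFrame_smul_iff (heσ.res le_top) (u z)).1 ?_
    have h1 : LineBundle.IsFrame N (U z) (LineBundle.res N (hle z) (Amp73.pullS σ L (f ⁻¹ᵁ U z) (e z))) :=
      LineBundle.IsFrame.res (Amp73.isFrame_pullS σ hL (he z)) (hle z)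
    rw [show LineBundle.res N (hle z) (Amp73.pullS σ L (f ⁻¹ᵁ U z) (e z)) = u z • LineBundle.res N le_top eσ from (hu z).symm] at h1
    exact h1
  let e' : ∀ z, Γ(L, f ⁻¹ᵁ U z) := fun z => f.app (U z) ↑(huu z).unit⁻¹ • e z
  have he' : ∀ z, LineBundle.IsFrame L (f ⁻¹ᵁ U z) (e' z) := fun z =>
    (Amp73.isFrame_smul_iff (he z) _).2 ((Units.isUnit _).map _)
  have hσe : ∀ z, unitSec σ L (hle z) (e' z) = res N le_top eσ := by
    intro z
    simp only [e']
    rw [LimTop61.unitSec_smul, appLE_section f σ hσ, ← hu z, smul_smul, IsUnit.val_inv_mul, one_smul]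
  -- the normalised trivialisations agree
  have hcompat : TopCat.Presheaf.IsCompatible L.presheaf (fun z => f ⁻¹ᵁ U z) e' := by
    intro z z'
    show res L (inf_le_left : f ⁻¹ᵁ U z ⊓ f ⁻¹ᵁ U z' ≤ f ⁻¹ᵁ U z) (e' z) =
      res L (inf_le_right : f ⁻¹ᵁ U z ⊓ f ⁻¹ᵁ U z' ≤ f ⁻¹ᵁ U z') (e' z')
    let O := U z ⊓ U z'
    obtain ⟨w, hw⟩ := (he' z' (f ⁻¹ᵁ O) (f.preimage_mono inf_le_right)).2 (res L (f.preimage_mono inf_le_left) (e' z))
    obtain ⟨v, rfl⟩ := (hf O).2 w
    have hO : O ≤ σ ⁻¹ᵁ (f ⁻¹ᵁ O) := le_section f σ hσ O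
    have h1 := congrArg (unitSec σ L hO) hw
    dsimp only at h1
    rw [LimTop61.unitSec_smul, appLE_section f σ hσ,
      LimTop61.unitSec_res σ L (hle z') hO _ (inf_le_right : O ≤ U z'),
      LimTop61.unitSec_res σ L (hle z) hO _ (inf_le_left : O ≤ U z), hσe, hσe, QC70.res_res] at h1
    have hv : v = 1 := by
      refine (heσ O le_top).1 ?_
      refine h1.trans ?_
      show _ = (1 : Γ(Z, O)) • _
      rw [one_smul]
      exact QC70.res_res _ _ _
    subst hv
    dsimp only at hw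
    rw [map_one, one_smul] at hw
    exact hw.symm
  obtain ⟨E, hE, -⟩ := TopCat.Sheaf.existsUnique_gluing' (C := AddCommGrpCat.{u})
    (⟨L.presheaf, L.isSheaf⟩ : TopCat.Sheaf AddCommGrpCat.{u} P) (fun z => f ⁻¹ᵁ U z) ⊤ (fun _ => homOfLE le_top)
    (fun t _ => Opens.mem_iSup.mpr ⟨f t, hzU (f t)⟩) _ hcompat
  refine iso_of_frame (e := E) (Amp73.isFrame_of_locally E fun t _ => ⟨f ⁻¹ᵁ U (f t), le_top, hzU (f t), ?_⟩)
  rw [show LineBundle.res L le_top E = e' (f t) from hE (f t)]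
  exact he' _

end Groth.Agent.Cube73
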