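import Groth.Agent.Cube73.Main

/-!
The theorem of the cube for three schemes over a base.
-/

set_option autoImplicit false
set_option maxSynthPendingDepth 6
set_option linter.style.haveILetI false
set_option backward.isDefEq.respectTransparency.types false

noncomputable section

universe u

open CategoryTheory Limits AlgebraicGeometry TopologicalSpace Opposite

namespace Groth.Agent.Cube73

theorem triv_of_map {V W Z T : Scheme.{u}} {v : V ⟶ Z} {w : W ⟶ Z} {g : T ⟶ Z} (i : V ⟶ W) (hi : i ≫ w = v)
    (p₁ : (i ≫ w) ≫ 𝟙 Z = i ≫ w) (p₂ : g ≫ 𝟙 Z = 𝟙 T ≫ g) (L : (pullback w g).Modules)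
    (h : Nonempty ((Scheme.Modules.pullback (pullback.map (i ≫ w) g w g i (𝟙 T) (𝟙 Z) p₁ p₂)).obj L ≅
      Coh.structureModule _)) :
    Nonempty ((Scheme.Modules.pullback (Datum.bcHom g i hi)).obj L ≅ Coh.structureModule _) := by
  subst hi
  have e : Datum.bcHom g i (rfl : i ≫ w = i ≫ w) = pullback.map (i ≫ w) g w g i (𝟙 T) (𝟙 Z) p₁ p₂ := by
    apply pullback.hom_ext
    · rw [Datum.bcHom_fst]; exact (pullback.lift_fst _ _ _).symm
    · rw [Datum.bcHom_snd]; exact ((pullback.lift_snd _ _ _).trans (Category.comp_id _)).symm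
  rw [e]
  exact h

section

variable {S X Y : Scheme.{u}} (pX : X ⟶ S) (pY : Y ⟶ S)
  [Flat pX] [IsProper pX] [LocallyOfFinitePresentation pX]
  [Flat pY] [IsProper pY] [LocallyOfFinitePresentation pY]
  (x : S ⟶ X) (hx : x ≫ pX = 𝟙 S) (y : S ⟶ Y) (hy : y ≫ pY = 𝟙 S)

/-- The cube datum of two pointed schemes over a base, with the structure sheaf as module. -/
abbrev unitDatum : Datum S where
  X := X
  Y := Y
  P := pullback pX pY
  qX := pX
  qY := pY
  properX := inferInstance
  flatX := inferInstance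
  lfpX := inferInstance
  properY := inferInstance
  flatY := inferInstance
  lfpY := inferInstance
  a := pullback.fst pX pY
  b := pullback.snd pX pY
  H := IsPullback.of_hasPullback _ _
  x := x
  hx := hx
  y := y
  hy := hy
  ix := pullback.lift (pY ≫ x) (𝟙 _) (by rw [Category.assoc, hx, Category.comp_id, Category.id_comp])
  hix := pullback.lift_fst _ _ _
  hix' := pullback.lift_snd _ _ _
  iy := pullback.lift (𝟙 _) (pX ≫ y) (by rw [Category.assoc, hy, Category.comp_id, Category.id_comp])
  hiy := pullback.lift_snd _ _ _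
  hiy' := pullback.lift_fst _ _ _
  L := Coh.structureModule _
  hL := EGA73.isInvertible_structureModule
  trivY := ⟨PicLoc.pullbackStructureIso _⟩
  trivX := ⟨PicLoc.pullbackStructureIso _⟩

variable {Z : Scheme.{u}} (pZ : Z ⟶ S) (L : (pullback (pullback.fst pX pY ≫ pX) pZ).Modules)
  (hL : PicF.IsInvertible L)
  (h₁ : Nonempty ((Scheme.Modules.pullback (Datum.bcHom pZ (unitDatum pX pY x hx y hy).ix
    (unitDatum pX pY x hx y hy).ix_q)).obj L ≅ Coh.structureModule _))
  (h₂ : Nonempty ((Scheme.Modules.pullback (Datum.bcHom pZ (unitDatum pX pY x hx y hy).iy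
    (unitDatum pX pY x hx y hy).iy_q)).obj L ≅ Coh.structureModule _))

/-- The cube datum of a module on a triple product. -/
abbrev tripleDatum : Datum Z :=
  { (unitDatum pX pY x hx y hy).bc pZ with L := L, hL := hL, trivY := h₁, trivX := h₂ }

include hL h₁ h₂ in
theorem triple_trivAt {z : Z}
    (h₃ : Nonempty ((Scheme.Modules.pullback ((pullback.snd (pullback.fst pX pY ≫ pX) pZ).fiberι z)).obj L ≅
      Coh.structureModule _)) :
    (tripleDatum pX pY x hx y hy pZ L hL h₁ h₂).TrivAt z := by
  have key : ∀ q' : pullback (pullback.fst pX pY ≫ pX) pZ ⟶ Z, q' = pullback.snd (pullback.fst pX pY ≫ pX) pZ →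
      Nonempty ((Scheme.Modules.pullback (q'.fiberι z)).obj L ≅ Coh.structureModule (q'.fiber z)) := by
    rintro _ rfl
    exact h₃
  exact key _ ((unitDatum pX pY x hx y hy).bc_q pZ)

end

end Groth.Agent.Cube73
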