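import Groth.Agent.Cube73.FieldDesc
import Groth.Agent.Cube73.Semicont
import Groth.Agent.An92.Ample.Inverse
import Groth.Agent.Inv57.OfTensor
import Groth.Agent.Crv77.Hopf

/-!
On an integral fibre with constant functions an invertible module is trivial, or it has no nonzero section,
or its inverse has none.
-/

set_option autoImplicit false
set_option maxSynthPendingDepth 6
set_option linter.style.haveILetI false
set_option linter.unusedSectionVars false
set_option backward.isDefEq.respectTransparency.types false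

noncomputable section

universe u

open CategoryTheory Limits AlgebraicGeometry TopologicalSpace Opposite
open Groth.Agent.Var76 Groth.Agent.Var76.LineBundle

namespace Groth.Agent.Cube73

/-- An invertible module and its inverse cannot both have nonzero sections unless it is trivial, on an
integral scheme whose global functions form a field. -/
theorem iso_of_sections {K : Scheme.{u}} [IsIntegral K] (hΓ : IsField Γ(K, ⊤)) {L N : K.Modules}
    (hL : PicF.IsInvertible L) (hN : PicF.IsInvertible N) (e : CohB1.tensorMod L N ≅ Coh.structureModule K)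
    {s : Γ(L, ⊤)} {t : Γ(N, ⊤)} (hs : s ≠ 0) (ht : t ≠ 0) : Nonempty (L ≅ Coh.structureModule K) := by
  have hc : Inv57.ev e s t ≠ 0 := by
    intro h
    have h0 : Amp73.tm L N s t = 0 :=
      (ConcreteCategory.bijective_of_isIso (e.hom.app ⊤)).1 (h.trans (map_zero (e.hom.app ⊤).hom).symm)
    have h3 := Crv77.gl_inf_le_gl_tm s t ⟨Crv77.genericPoint_mem_gl hL hs, Crv77.genericPoint_mem_gl hN ht⟩
    rw [h0, Crv77.gl_zero_eq_bot (EGA73.isInvertible_tensorMod hL hN)] at h3
    exact h3
  obtain ⟨d, hd⟩ := hΓ.mul_inv_cancel hc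
  have h1 : Inv57.ev e (d • s) t = 1 := by rw [Inv57.ev_smul_left, mul_comm, hd]
  exact iso_of_frame (Inv57.isFrame_of_ev_eq_one e h1)

theorem nontrivial_of_iso {K : Scheme.{u}} [Nonempty ↥K] {L : K.Modules} (e : L ≅ Coh.structureModule K) :
    Nontrivial Γ(L, ⊤) := by
  haveI : Nontrivial Γ(K, ⊤) := by
    obtain ⟨x⟩ := (inferInstance : Nonempty ↥K)
    exact (K.presheaf.germ ⊤ x trivial).hom.domain_nontrivial
  exact (Equiv.ofBijective _ (ConcreteCategory.bijective_of_isIso (e.hom.app ⊤)) :
    Γ(L, ⊤) ≃ Γ(K, ⊤)).nontrivial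

namespace Datum

variable {Z : Scheme.{u}} (D : Datum Z)

/-- The inverse of the module. -/
theorem exists_inv : ∃ N : D.P.Modules, PicF.IsInvertible N ∧
    Nonempty (CohB1.tensorMod D.L N ≅ Coh.structureModule D.P) := by
  obtain ⟨N, hN, ⟨e⟩⟩ := An92.InvMod.exists_inverse D.hL
  exact ⟨N, hN, ⟨EGA73.tensComm _ _ ≪≫ e⟩⟩

theorem trivAt_iff {N : D.P.Modules} (hN : PicF.IsInvertible N)
    (e : CohB1.tensorMod D.L N ≅ Coh.structureModule D.P) {z : Z} (h0 : D.H0At z)
    [IsIntegral (D.q.fiber z)] : D.TrivAt z ↔ ¬ NoSec D.q D.L z ∧ ¬ NoSec D.q N z := by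
  let ι := D.q.fiberι z
  have hL' := Amp73.isInvertible_pullback ι D.hL
  have hN' := Amp73.isInvertible_pullback ι hN
  haveI := Amp73.isIso_pullTensHom ι D.hL hN
  let e' : CohB1.tensorMod ((Scheme.Modules.pullback ι).obj D.L) ((Scheme.Modules.pullback ι).obj N) ≅
      Coh.structureModule (D.q.fiber z) :=
    (asIso (Amp73.pullTensHom ι D.L N)).symm ≪≫ (Scheme.Modules.pullback ι).mapIso e ≪≫ PicLoc.pullbackStructureIso ι
  constructor
  · rintro ⟨i⟩
    refine ⟨fun h => (not_nontrivial_iff_subsingleton.2 h) (nontrivial_of_iso i), fun h => ?_⟩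
    have e2 : (Scheme.Modules.pullback ι).obj N ≅ Coh.structureModule (D.q.fiber z) :=
      (EGA73.tensUnitLeft _).symm ≪≫ (EGA73.tensIso i (Iso.refl _)).symm ≪≫ e'
    exact (not_nontrivial_iff_subsingleton.2 h) (nontrivial_of_iso e2)
  · rintro ⟨h1, h2⟩
    obtain ⟨s, hs⟩ := @exists_ne _ (not_subsingleton_iff_nontrivial.1 h1) (0 : Γ((Scheme.Modules.pullback ι).obj D.L, ⊤))
    obtain ⟨t, ht⟩ := @exists_ne _ (not_subsingleton_iff_nontrivial.1 h2) (0 : Γ((Scheme.Modules.pullback ι).obj N, ⊤))
    have hk : IsField Γ(D.q.fiber z, ⊤) :=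
      (RingEquiv.ofBijective _ (D.h0_fiber h0)).symm.toMulEquiv.isField (isField_Γ (Field.toIsField (Z.residueField z)))
    exact iso_of_sections hk hL' hN' e' hs ht

/-- With integral fibres having constant functions, the trivial locus over a locally Noetherian base is
closed. -/
theorem isClosed_trivAt [IsLocallyNoetherian Z] (h0 : ∀ z, D.H0At z) (hint : ∀ z, IsIntegral (D.q.fiber z)) :
    IsClosed {z | D.TrivAt z} := by
  obtain ⟨N, hN, ⟨e⟩⟩ := D.exists_inv
  have : {z | D.TrivAt z} = ({z | NoSec D.q D.L z} ∪ {z | NoSec D.q N z})ᶜ := by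
    ext z
    haveI := hint z
    exact (D.trivAt_iff hN e (h0 z)).trans (not_or.symm)
  rw [this]
  exact ((isOpen_noSec D.q D.hL).union (isOpen_noSec D.q hN)).isClosed_compl

end Datum

end Groth.Agent.Cube73
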