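import Groth.Agent.Cube73.FieldDesc
import Groth.Agent.Approx60.ProperDesc
import Groth.Agent.LimTop61.FPDescend
import Groth.Agent.LimTop61.HomDescent
import Groth.Agent.LimTop61.LocFreeStage
import Groth.Agent.EGA73.Invertible
import Groth.Agent.VB30.Tensor
import Groth.Agent.Mero90.Frames

/-!
A cube datum over a quasi-compact quasi-separated base comes from a Noetherian base.
-/

set_option autoImplicit false
set_option maxSynthPendingDepth 6
set_option linter.style.haveILetI false
set_option backward.isDefEq.respectTransparency.types false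

noncomputable section

universe u

open CategoryTheory Limits AlgebraicGeometry TopologicalSpace Opposite
open Groth.Agent.LimTop61 (bcDiagram bcCone isLimitBcCone)

namespace Groth.Agent.Cube73

/-- An invertible module is finitely presented. -/
theorem isFP_of_isInvertible {X : Scheme.{u}} {L : X.Modules} (hL : PicF.IsInvertible L) : CohB1.IsFP L :=
  Props58.LocFree.isFP_of_isFinLocFree fun y => by
    obtain ⟨V, hy, h⟩ := Mero90.isFinLocFreeOfRank_of_isInvertible hL y
    exact ⟨V, 1, hy, h⟩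

variable {I : Type u} [SmallCategory I] [IsCofiltered I] {D : I ⥤ Scheme.{u}} {c : Cone D}

/-- The comparison of a pullback over the limit with the pullback over a stage. -/
def stageMap {X X₀ : Scheme.{u}} {p : X ⟶ c.pt} {k : I} {p₀ : X₀ ⟶ D.obj k} {e : X ⟶ X₀}
    (h : IsPullback e p p₀ (c.π.app k)) {j : I} (φ : j ⟶ k) : X ⟶ pullback p₀ (D.map φ) :=
  pullback.lift e (p ≫ c.π.app j) (by rw [h.w, Category.assoc]; erw [c.w φ])

omit [IsCofiltered I] in
theorem stageMap_fst {X X₀ : Scheme.{u}} {p : X ⟶ c.pt} {k : I} {p₀ : X₀ ⟶ D.obj k} {e : X ⟶ X₀}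
    (h : IsPullback e p p₀ (c.π.app k)) {j : I} (φ : j ⟶ k) : stageMap h φ ≫ pullback.fst p₀ (D.map φ) = e :=
  pullback.lift_fst _ _ _

omit [IsCofiltered I] in
theorem stageMap_snd {X X₀ : Scheme.{u}} {p : X ⟶ c.pt} {k : I} {p₀ : X₀ ⟶ D.obj k} {e : X ⟶ X₀}
    (h : IsPullback e p p₀ (c.π.app k)) {j : I} (φ : j ⟶ k) :
    stageMap h φ ≫ pullback.snd p₀ (D.map φ) = p ≫ c.π.app j :=
  pullback.lift_snd _ _ _

omit [IsCofiltered I] in
/-- The comparison with a pullback over a stage is again a pullback. -/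
theorem isPullback_lift {X X₀ : Scheme.{u}} {p : X ⟶ c.pt} {k : I} {p₀ : X₀ ⟶ D.obj k} {e : X ⟶ X₀}
    (h : IsPullback e p p₀ (c.π.app k)) {j : I} (φ : j ⟶ k) :
    IsPullback (stageMap h φ) p (pullback.snd p₀ (D.map φ)) (c.π.app j) := by
  refine IsPullback.of_right ?_ (stageMap_snd h φ) (IsPullback.of_hasPullback p₀ (D.map φ))
  rw [stageMap_fst]
  erw [c.w φ]
  exact h

variable (hc : IsLimit c) [∀ (i j : I) (f : i ⟶ j), IsAffineHom (D.map f)] [∀ i, CompactSpace (D.obj i)]
  [∀ i, QuasiSeparatedSpace (D.obj i)]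

include hc in
/-- A proper flat scheme of finite presentation with a section comes from a stage. -/
theorem exists_stage {X : Scheme.{u}} (p : X ⟶ c.pt) [IsProper p] [Flat p] [LocallyOfFinitePresentation p]
    (x : c.pt ⟶ X) (hx : x ≫ p = 𝟙 _) :
    ∃ (i : I) (X₀ : Scheme.{u}) (p₀ : X₀ ⟶ D.obj i) (x₀ : D.obj i ⟶ X₀) (e : X ⟶ X₀),
      IsPullback e p p₀ (c.π.app i) ∧ IsProper p₀ ∧ Flat p₀ ∧ LocallyOfFinitePresentation p₀ ∧
        x₀ ≫ p₀ = 𝟙 _ ∧ x ≫ e = c.π.app i ≫ x₀ := by
  obtain ⟨i, Xi, pi, e, hl, hqc, hqs, he⟩ := Approx60.S0591 D c hc X p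
  obtain ⟨j, φ, hprop⟩ := Approx60.descProp_isProper.desc D c hc i pi
    (inferInstance : LocallyOfFiniteType pi)
    ((LimDesc62.prop_iff_of_isPullback (P := @IsProper) he).mp ‹IsProper p›)
  let p₁ := pullback.snd pi (D.map φ)
  haveI : LocallyOfFinitePresentation p₁ := MorphismProperty.pullback_snd _ _ hl
  haveI : IsProper p₁ := hprop
  have he₁ := isPullback_lift he φ
  obtain ⟨m, ψ, hflat⟩ := Rig93.descProp_flat.desc D c hc j p₁
    (inferInstance : LocallyOfFinitePresentation p₁)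
    ((LimDesc62.prop_iff_of_isPullback (P := @Flat) he₁).mp ‹Flat p›)
  let p₂ := pullback.snd p₁ (D.map ψ)
  haveI : LocallyOfFinitePresentation p₂ := MorphismProperty.pullback_snd _ _ ‹_›
  haveI : IsProper p₂ := MorphismProperty.pullback_snd _ _ hprop
  haveI : Flat p₂ := hflat
  have he₂ := isPullback_lift he₁ ψ
  let e₂ := stageMap he₁ ψ
  have hu : (x ≫ e₂) ≫ p₂ = 𝟙 _ ≫ c.π.app m := by
    rw [Category.assoc, he₂.w, reassoc_of% hx, Category.id_comp]
  obtain ⟨n, χ, g, hg, hg'⟩ := LimTop61.exists_hom_descend (D := D) (c := c) hc (𝟙 (D.obj m)) p₂ (𝟙 c.pt)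
    (c.π.app m) (IsPullback.of_vert_isIso ⟨by simp⟩) (x ≫ e₂) hu
  let s : D.obj n ⟶ pullback (𝟙 (D.obj m)) (D.map χ) :=
    pullback.lift (D.map χ) (𝟙 _) (by rw [Category.comp_id, Category.id_comp])
  have hs : (s ≫ g) ≫ p₂ = 𝟙 _ ≫ D.map χ := by
    rw [Category.assoc, hg, Category.comp_id, Category.id_comp]
    exact pullback.lift_fst _ _ _
  refine ⟨n, _, pullback.snd p₂ (D.map χ), pullback.lift (s ≫ g) (𝟙 _) hs, _, isPullback_lift he₂ χ,
    MorphismProperty.pullback_snd _ _ ‹_›, MorphismProperty.pullback_snd _ _ ‹_›,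
    MorphismProperty.pullback_snd _ _ ‹_›, pullback.lift_snd _ _ _, ?_⟩
  apply pullback.hom_ext
  · rw [Category.assoc, Category.assoc, stageMap_fst, pullback.lift_fst, ← hg']
    refine Eq.trans ?_ (Category.assoc _ _ _)
    congr 1
    apply pullback.hom_ext
    · rw [pullback.lift_fst, Category.assoc, pullback.lift_fst]
      exact (c.w χ).symm
    · rw [pullback.lift_snd, Category.assoc, pullback.lift_snd, Category.id_comp, Category.comp_id]
  · rw [Category.assoc, Category.assoc, stageMap_snd, pullback.lift_snd, reassoc_of% hx, Category.comp_id]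

section Slice

variable {k : I} {W V : Scheme.{u}} {w : W ⟶ D.obj k} {v : V ⟶ D.obj k} [QuasiCompact w] [QuasiSeparated w]
  [QuasiCompact v] [QuasiSeparated v] (i : V ⟶ W) (hi : i ≫ w = v)
  {W' V' : Scheme.{u}} {w' : W' ⟶ c.pt} {v' : V' ⟶ c.pt} {eW : W' ⟶ W} {eV : V' ⟶ V}
  (hW : IsPullback eW w' w (c.π.app k)) (hV : IsPullback eV v' v (c.π.app k))

include hc hV in
/-- A module trivial on a slice over the limit is trivial on the slice over a stage. -/
theorem exists_slice_stage (i' : V' ⟶ W') (hi' : i' ≫ w' = v') (hcomp : eV ≫ i = i' ≫ eW) (j : Over k)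
    (L : (pullback w (D.map j.hom)).Modules) (hL : PicF.IsInvertible L)
    (h : Nonempty ((Scheme.Modules.pullback i').obj ((Scheme.Modules.pullback ((bcCone D c w eW w' hW.w).π.app j)).obj L)
      ≅ Coh.structureModule V')) :
    ∃ (l : Over k) (ψ : l ⟶ j), Nonempty ((Scheme.Modules.pullback (Datum.bcHom (D.map l.hom) i hi)).obj
      ((Scheme.Modules.pullback ((bcDiagram D w).map ψ)).obj L) ≅ Coh.structureModule _) := by
  obtain ⟨e⟩ := h
  let ij := Datum.bcHom (D.map j.hom) i hi
  have hπ : (bcCone D c v eV v' hV.w).π.app j ≫ ij = i' ≫ (bcCone D c w eW w' hW.w).π.app j := by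
    apply pullback.hom_ext
    · erw [Category.assoc, Category.assoc, Datum.bcHom_fst, pullback.lift_fst, pullback.lift_fst_assoc]
      exact hcomp
    · erw [Category.assoc, Category.assoc, Datum.bcHom_snd, pullback.lift_snd, pullback.lift_snd, reassoc_of% hi']
  haveI : CompactSpace ↥((bcDiagram D v).obj j) :=
    @QuasiCompact.compactSpace_of_compactSpace _ (D.obj j.left) (pullback.snd v (D.map j.hom))
      (MorphismProperty.pullback_snd _ _ ‹QuasiCompact v›) inferInstance
  haveI : QuasiSeparatedSpace ↥((bcDiagram D v).obj j) :=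
    @quasiSeparatedSpace_of_quasiSeparated _ (D.obj j.left) (pullback.snd v (D.map j.hom)) inferInstance
      (MorphismProperty.pullback_snd _ _ ‹QuasiSeparated v›)
  let F₀ : ((bcDiagram D v).obj j).Modules := (Scheme.Modules.pullback ij).obj L
  have hF := Amp73.isInvertible_pullback ij hL
  haveI : CohB1.IsFP F₀ := isFP_of_isInvertible hF
  haveI : CohB1.IsFP (Coh.structureModule ((bcDiagram D v).obj j)) :=
    isFP_of_isInvertible EGA73.isInvertible_structureModule
  have h1 : Nonempty ((Scheme.Modules.pullback ((bcCone D c v eV v' hV.w).π.app j)).obj F₀ ≅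
      (Scheme.Modules.pullback ((bcCone D c v eV v' hV.w).π.app j)).obj (Coh.structureModule _)) :=
    ⟨(Scheme.Modules.pullbackComp _ ij).app L ≪≫ (Scheme.Modules.pullbackCongr hπ).app L ≪≫
      ((Scheme.Modules.pullbackComp i' _).app L).symm ≪≫ e ≪≫ (PicLoc.pullbackStructureIso _).symm⟩
  obtain ⟨l, ψ, ⟨e'⟩⟩ := (LimTop61.nonempty_iso_iff_eventually (isLimitBcCone D c hc v eV v' hV) F₀
    (Coh.structureModule _)).1 h1
  have hsq : Datum.bcHom (D.map l.hom) i hi ≫ (bcDiagram D w).map ψ = (bcDiagram D v).map ψ ≫ ij := by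
    apply pullback.hom_ext
    · erw [Category.assoc, Category.assoc, pullback.lift_fst, Datum.bcHom_fst, Datum.bcHom_fst,
        pullback.lift_fst_assoc]
    · erw [Category.assoc, Category.assoc, pullback.lift_snd, Datum.bcHom_snd, pullback.lift_snd,
        ← Category.assoc, Datum.bcHom_snd]
  exact ⟨l, ψ, ⟨(Scheme.Modules.pullbackComp _ _).app L ≪≫ (Scheme.Modules.pullbackCongr hsq).app L ≪≫
    ((Scheme.Modules.pullbackComp _ ij).app L).symm ≪≫ e' ≪≫ PicLoc.pullbackStructureIso _⟩⟩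

end Slice

omit [IsCofiltered I] in
/-- A module pulled back to a stage along the cone is the module pulled back. -/
theorem pullback_cone_iso {E : Scheme.{u}} {k : I} {w : E ⟶ D.obj k} {W' : Scheme.{u}} {w' : W' ⟶ c.pt}
    {eW : W' ⟶ E} (hW : IsPullback eW w' w (c.π.app k)) {l j : Over k} (ψ : l ⟶ j)
    (L : (pullback w (D.map j.hom)).Modules) :
    Nonempty ((Scheme.Modules.pullback ((bcCone D c w eW w' hW.w).π.app l)).obj
      ((Scheme.Modules.pullback ((bcDiagram D w).map ψ)).obj L) ≅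
        (Scheme.Modules.pullback ((bcCone D c w eW w' hW.w).π.app j)).obj L) :=
  ⟨(Scheme.Modules.pullbackComp _ _).app L ≪≫
    (Scheme.Modules.pullbackCongr ((bcCone D c w eW w' hW.w).w ψ)).app L⟩

/-- A cube datum over a quasi-compact quasi-separated base comes from a locally Noetherian base. -/
theorem exists_model {Z : Scheme.{u}} [CompactSpace Z] [QuasiSeparatedSpace Z] (T : Datum Z) :
    ∃ (Z₀ : Scheme.{u}) (_ : IsLocallyNoetherian Z₀) (g : Z ⟶ Z₀) (T₀ : Datum Z₀), Nonempty (BC T₀ T g) := by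
  obtain ⟨J, _, _, E, π, hD, ⟨hc⟩⟩ := Approx60.exists_approximation Z
  haveI := hD.aff
  haveI := hD.compact
  haveI hln := fun i => @Approx60.isLocallyNoetherian_of_lft_toZ _ (hD.lft i)
  let c : Cone E := Cone.mk Z π
  obtain ⟨i₁, X₁, pX₁, x₁, eX₁, hX₁, hX₁p, hX₁f, hX₁l, hx₁, hx₁'⟩ :=
    exists_stage (c := c) hc T.qX T.x T.hx
  obtain ⟨i₂, Y₂, pY₂, y₂, eY₂, hY₂, hY₂p, hY₂f, hY₂l, hy₂, hy₂'⟩ :=
    exists_stage (c := c) hc T.qY T.y T.hy
  obtain ⟨k, α, β, -⟩ := IsCofilteredOrEmpty.cone_objs i₁ i₂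
  let pX := pullback.snd pX₁ (E.map α)
  let pY := pullback.snd pY₂ (E.map β)
  haveI : IsProper pX := MorphismProperty.pullback_snd _ _ hX₁p
  haveI : Flat pX := MorphismProperty.pullback_snd _ _ hX₁f
  haveI : LocallyOfFinitePresentation pX := MorphismProperty.pullback_snd _ _ hX₁l
  haveI : IsProper pY := MorphismProperty.pullback_snd _ _ hY₂p
  haveI : Flat pY := MorphismProperty.pullback_snd _ _ hY₂f
  haveI : LocallyOfFinitePresentation pY := MorphismProperty.pullback_snd _ _ hY₂l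
  let x₀ := Datum.bcSec (E.map α) x₁ hx₁
  let y₀ := Datum.bcSec (E.map β) y₂ hy₂
  have hx₀ : x₀ ≫ pX = 𝟙 _ := pullback.lift_snd _ _ _
  have hy₀ : y₀ ≫ pY = 𝟙 _ := pullback.lift_snd _ _ _
  let eX := stageMap (c := c) hX₁ α
  let eY := stageMap (c := c) hY₂ β
  have hX : IsPullback eX T.qX pX (π.app k) := isPullback_lift (c := c) hX₁ α
  have hY : IsPullback eY T.qY pY (π.app k) := isPullback_lift (c := c) hY₂ β
  have hxe : T.x ≫ eX = π.app k ≫ x₀ := by
    apply pullback.hom_ext
    · rw [Category.assoc, Category.assoc, stageMap_fst, hx₁']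
      erw [pullback.lift_fst, ← Category.assoc, c.w α]
    · rw [Category.assoc, Category.assoc, stageMap_snd]
      erw [pullback.lift_snd, reassoc_of% T.hx, Category.comp_id]
  have hye : T.y ≫ eY = π.app k ≫ y₀ := by
    apply pullback.hom_ext
    · rw [Category.assoc, Category.assoc, stageMap_fst, hy₂']
      erw [pullback.lift_fst, ← Category.assoc, c.w β]
    · rw [Category.assoc, Category.assoc, stageMap_snd]
      erw [pullback.lift_snd, reassoc_of% T.hy, Category.comp_id]
  let T₀ : Datum (E.obj k) :=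
    { X := _, Y := _, P := pullback pX pY, qX := pX, qY := pY
      properX := inferInstance, flatX := inferInstance, lfpX := inferInstance
      properY := inferInstance, flatY := inferInstance, lfpY := inferInstance
      a := pullback.fst pX pY, b := pullback.snd pX pY, H := IsPullback.of_hasPullback _ _
      x := x₀, hx := hx₀, y := y₀, hy := hy₀
      ix := pullback.lift (pY ≫ x₀) (𝟙 _) (by rw [Category.assoc, hx₀, Category.comp_id, Category.id_comp])
      hix := pullback.lift_fst _ _ _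
      hix' := pullback.lift_snd _ _ _
      iy := pullback.lift (𝟙 _) (pX ≫ y₀) (by rw [Category.assoc, hy₀, Category.comp_id, Category.id_comp])
      hiy := pullback.lift_snd _ _ _
      hiy' := pullback.lift_fst _ _ _
      L := Coh.structureModule _
      hL := EGA73.isInvertible_structureModule
      trivY := ⟨PicLoc.pullbackStructureIso _⟩
      trivX := ⟨PicLoc.pullbackStructureIso _⟩ }
  let eP : T.P ⟶ T₀.P := pullback.lift (T.a ≫ eX) (T.b ≫ eY)
    (by rw [Category.assoc, Category.assoc, hX.w, hY.w, reassoc_of% T.H.w])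
  have hP : IsPullback eP T.q T₀.q (π.app k) := by
    have h1 := T.H.flip.paste_horiz hY
    rw [← hX.w] at h1
    have h2 : IsPullback eP T.a (pullback.fst pX pY) eX := by
      refine IsPullback.of_right ?_ (pullback.lift_fst _ _ _) (IsPullback.of_hasPullback pX pY).flip
      rw [show eP ≫ pullback.snd pX pY = T.b ≫ eY from pullback.lift_snd _ _ _]
      exact h1
    exact h2.paste_vert hX
  have hcx : eY ≫ T₀.ix = T.ix ≫ eP := by
    apply pullback.hom_ext
    · erw [Category.assoc, Category.assoc, pullback.lift_fst, pullback.lift_fst]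
      rw [reassoc_of% hY.w, reassoc_of% T.hix, hxe]
    · erw [Category.assoc, Category.assoc, pullback.lift_snd, pullback.lift_snd, reassoc_of% T.hix',
        Category.comp_id]
  have hcy : eX ≫ T₀.iy = T.iy ≫ eP := by
    apply pullback.hom_ext
    · erw [Category.assoc, Category.assoc, pullback.lift_fst, pullback.lift_fst, reassoc_of% T.hiy',
        Category.comp_id]
    · erw [Category.assoc, Category.assoc, pullback.lift_snd, pullback.lift_snd]
      rw [reassoc_of% hX.w, reassoc_of% T.hiy, hye]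
  let C := bcCone E c T₀.q eP T.q hP.w
  have hC : IsLimit C := isLimitBcCone E c hc T₀.q eP T.q hP
  have hcomp : ∀ j : Over k, CompactSpace ↥((bcDiagram E T₀.q).obj j) := fun j =>
    @QuasiCompact.compactSpace_of_compactSpace _ (E.obj j.left) (pullback.snd T₀.q (E.map j.hom))
      (MorphismProperty.pullback_snd _ _ inferInstance) inferInstance
  have hqsep : ∀ j : Over k, QuasiSeparatedSpace ↥((bcDiagram E T₀.q).obj j) := fun j =>
    @quasiSeparatedSpace_of_quasiSeparated _ (E.obj j.left) (pullback.snd T₀.q (E.map j.hom)) inferInstance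
      (MorphismProperty.pullback_snd _ _ inferInstance)
  haveI := hcomp (Over.mk (𝟙 k))
  haveI := hqsep (Over.mk (𝟙 k))
  haveI : CohB1.IsFP T.L := isFP_of_isInvertible T.hL
  haveI : T.L.IsQuasicoherent := inferInstance
  let F : C.pt.Modules := T.L
  haveI : F.IsQuasicoherent := (inferInstance : T.L.IsQuasicoherent)
  haveI : CohB1.IsFP F := isFP_of_isInvertible T.hL
  obtain ⟨m, -, L₁, hL₁q, hL₁fp, ⟨e₁⟩⟩ :=
    LimTop61.exists_fp_descend (c := C) hC (i₀ := Over.mk (𝟙 k)) F
  haveI := hcomp m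
  haveI := hqsep m
  haveI : L₁.IsQuasicoherent := hL₁q
  haveI : CohB1.IsFP L₁ := hL₁fp
  obtain ⟨j, φ, hrk⟩ := (LimTop61.isFinLocFreeOfRank_iff_eventually hC 1 L₁).1
    (LimTop61.isFinLocFreeOfRank_of_iso e₁.symm (Mero90.isFinLocFreeOfRank_of_isInvertible T.hL))
  let L₂ := (Scheme.Modules.pullback ((bcDiagram E T₀.q).map φ)).obj L₁
  have hL₂ : PicF.IsInvertible L₂ := VB30.isInvertible_of_rank_one hrk
  have e₂ : (Scheme.Modules.pullback (C.π.app j)).obj L₂ ≅ T.L :=
    (pullback_cone_iso (c := c) hP φ L₁).some ≪≫ e₁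
  obtain ⟨l₁, ψ₁, ⟨ty⟩⟩ := exists_slice_stage (c := c) hc T₀.ix T₀.ix_q hP hY T.ix T.ix_q hcx j L₂ hL₂
    ⟨(Scheme.Modules.pullback T.ix).mapIso e₂ ≪≫ T.trivY.some⟩
  let L₃ := (Scheme.Modules.pullback ((bcDiagram E T₀.q).map ψ₁)).obj L₂
  have hL₃ : PicF.IsInvertible L₃ := Amp73.isInvertible_pullback _ hL₂
  have e₃ : (Scheme.Modules.pullback (C.π.app l₁)).obj L₃ ≅ T.L := (pullback_cone_iso (c := c) hP ψ₁ L₂).some ≪≫ e₂
  obtain ⟨l, ψ, ⟨tx⟩⟩ := exists_slice_stage (c := c) hc T₀.iy T₀.iy_q hP hX T.iy T.iy_q hcy l₁ L₃ hL₃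
    ⟨(Scheme.Modules.pullback T.iy).mapIso e₃ ≪≫ T.trivX.some⟩
  let g := E.map l.hom
  let L₄ := (Scheme.Modules.pullback ((bcDiagram E T₀.q).map ψ)).obj L₃
  have e₄ : (Scheme.Modules.pullback (C.π.app l)).obj L₄ ≅ T.L := (pullback_cone_iso (c := c) hP ψ L₃).some ≪≫ e₃
  have hsq : Datum.bcHom g T₀.ix T₀.ix_q ≫ (bcDiagram E T₀.q).map ψ =
      (bcDiagram E T₀.qY).map ψ ≫ Datum.bcHom (E.map l₁.hom) T₀.ix T₀.ix_q := by
    apply pullback.hom_ext
    · erw [Category.assoc, Category.assoc, pullback.lift_fst, Datum.bcHom_fst, Datum.bcHom_fst,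
        pullback.lift_fst_assoc]
    · erw [Category.assoc, Category.assoc, pullback.lift_snd, Datum.bcHom_snd, pullback.lift_snd,
        ← Category.assoc, Datum.bcHom_snd]
  let T' : Datum (E.obj l.left) :=
    { T₀.bc g with
      L := L₄
      hL := Amp73.isInvertible_pullback _ hL₃
      trivY := Datum.triv_comp hsq ty
      trivX := ⟨tx⟩ }
  refine ⟨E.obj l.left, hln _, π.app l.left, T', ⟨⟨stageMap (c := c) hX l.hom, stageMap (c := c) hY l.hom, stageMap (c := c) hP l.hom,
    isPullback_lift (c := c) hX l.hom, isPullback_lift (c := c) hY l.hom, ?_, e₄⟩⟩⟩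
  have hq : T'.q = pullback.snd T₀.q g := T₀.bc_q g
  rw [hq]
  exact isPullback_lift (c := c) hP l.hom

end Groth.Agent.Cube73
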