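import Groth.Agent.Cube73.Dichotomy
import Groth.Agent.Cube73.Model
import Groth.Agent.AbSch7.PushO
import Groth.Agent.Amp73.Gen
import Groth.Agent.Amp73.Local
import Groth.Agent.FBase64.Geometric

/-!
The theorem of the cube.
-/

set_option autoImplicit false
set_option maxSynthPendingDepth 6
set_option linter.style.haveILetI false
set_option linter.unusedSectionVars false
set_option backward.isDefEq.respectTransparency.types false

noncomputable section

universe u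

open CategoryTheory Limits AlgebraicGeometry TopologicalSpace Opposite
open Groth.Agent.Var76 Groth.Agent.Var76.LineBundle

namespace Groth.Agent.Cube73

/-- A frame of the restriction along an open immersion is a frame on the image. -/
theorem exists_frame_of_openImmersion {W P : Scheme.{u}} (j : W ⟶ P) [IsOpenImmersion j] (L : P.Modules)
    (O : W.Opens) {e : Γ((Scheme.Modules.pullback j).obj L, O)} (he : IsFrame _ O e) :
    ∃ e' : Γ(L, j ''ᵁ O), IsFrame L (j ''ᵁ O) e' :=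
  ⟨_, (Amp73.isFrame_restrict_iff j L O _).1
    ((Amp73.isFrame_app_iff ((Scheme.Modules.restrictFunctorIsoPullback j).app L).inv e).2 he)⟩

namespace Datum

variable {Z : Scheme.{u}} (D : Datum Z)

/-- The module has a frame over a neighbourhood of a point of the base. -/
def FrameAt (z : Z) : Prop :=
  ∃ U : Z.Opens, z ∈ U ∧ ∃ e : Γ(D.L, D.q ⁻¹ᵁ U), IsFrame D.L (D.q ⁻¹ᵁ U) e

theorem frameAt_of_bc {T : Scheme.{u}} (j : T ⟶ Z) [IsOpenImmersion j] (t : T) (h : (D.bc j).FrameAt t) :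
    D.FrameAt (j t) := by
  obtain ⟨U, ht, he⟩ := h
  have key : ∀ (q' : pullback D.q j ⟶ T), q' = pullback.snd D.q j →
      (∃ e : Γ((Scheme.Modules.pullback (pullback.fst D.q j)).obj D.L, q' ⁻¹ᵁ U),
        IsFrame ((Scheme.Modules.pullback (pullback.fst D.q j)).obj D.L) (q' ⁻¹ᵁ U) e) → D.FrameAt (j t) := by
    rintro _ rfl ⟨e, he⟩
    refine ⟨j ''ᵁ U, ⟨t, ht, rfl⟩, ?_⟩
    obtain ⟨e', he'⟩ := exists_frame_of_openImmersion (pullback.fst D.q j) D.L _ he
    have hi : pullback.fst D.q j ''ᵁ (pullback.snd D.q j ⁻¹ᵁ U) = D.q ⁻¹ᵁ (j ''ᵁ U) :=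
      IsOpenImmersion.image_preimage_eq_preimage_image_of_isPullback (IsPullback.of_hasPullback D.q j).flip U
    rw [← hi]
    exact ⟨e', he'⟩
  exact key (D.bc j).q (D.bc_q j) he

theorem trivAt_of_frameAt {z : Z} (h : D.FrameAt z) : D.TrivAt z := by
  obtain ⟨U, hz, e, he⟩ := h
  have h2 : D.q.fiberι z ⁻¹ᵁ (D.q ⁻¹ᵁ U) = ⊤ := top_unique fun w _ => by
    show D.q (D.q.fiberι z w) ∈ U
    have : D.q.fiberι z w ∈ D.q ⁻¹' {z} := (D.q.range_fiberι z).le ⟨w, rfl⟩
    rw [show D.q (D.q.fiberι z w) = z from this]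
    exact hz
  have h1 : ∃ s, IsFrame ((Scheme.Modules.pullback (D.q.fiberι z)).obj D.L) (D.q.fiberι z ⁻¹ᵁ (D.q ⁻¹ᵁ U)) s :=
    ⟨_, Amp73.isFrame_pullS (D.q.fiberι z) D.hL he⟩
  rw [h2] at h1
  obtain ⟨s, hs⟩ := h1
  exact iso_of_frame hs

theorem frameAt_of_BC {T : Scheme.{u}} {D' : Datum T} {g : T ⟶ Z} (B : BC D D' g) (t : T)
    (h : D.FrameAt (g t)) : D'.FrameAt t := by
  obtain ⟨U, ht, e, he⟩ := h
  have h1 : D'.q ⁻¹ᵁ (g ⁻¹ᵁ U) = B.eP ⁻¹ᵁ (D.q ⁻¹ᵁ U) := by
    rw [← Scheme.Hom.comp_preimage, ← Scheme.Hom.comp_preimage, B.hP.w]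
  refine ⟨g ⁻¹ᵁ U, ht, ?_⟩
  rw [h1]
  exact ⟨_, (Amp73.isFrame_app_iff B.eL.hom _).2 (Amp73.isFrame_pullS B.eP D.hL he)⟩

theorem h0At (hX : GeometricallyIntegral D.qX) (hY : GeometricallyIntegral D.qY) (z : Z) : D.H0At z :=
  haveI := FBase64.geometricallyConnected_of_geometricallyIrreducible D.qX
  haveI := FBase64.geometricallyConnected_of_geometricallyIrreducible D.qY
  ⟨Rig93.h0_of_geometrically D.qX z, Rig93.h0_of_geometrically D.qY z⟩

theorem isIntegral_P (hY : GeometricallyIntegral D.qY) (hi : IsIntegral D.X) (hn : IsLocallyNoetherian D.X) :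
    IsIntegral D.P :=
  haveI : GeometricallyIntegral D.a := MorphismProperty.of_isPullback (P := @GeometricallyIntegral) D.H.flip hY
  GeometricallyIntegral.isIntegral_of_isLocallyNoetherian D.a

theorem isIntegral_fiber (hX : GeometricallyIntegral D.qX) (hY : GeometricallyIntegral D.qY) (z : Z) :
    IsIntegral (D.q.fiber z) := by
  let ι := Z.fromSpecResidueField z
  exact isIntegral_P (D.bc ι) (inferInstanceAs (GeometricallyIntegral (pullback.snd D.qY ι)))
    (inferInstanceAs (IsIntegral (D.qX.fiber z))) (@LocallyOfFiniteType.isLocallyNoetherian _ _ (D.bc ι).qX _ inferInstance)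

/-- Over a locally Noetherian base a trivial fibre spreads out. -/
theorem frameAt_of_trivAt_noeth [IsLocallyNoetherian Z] (z : Z) (h0 : D.H0At z) (ht : D.TrivAt z) :
    D.FrameAt z := by
  obtain ⟨V, hV, hz, -⟩ := exists_isAffineOpen_mem_and_subset (X := Z) (x := z) (U := ⊤) trivial
  haveI : IsAffine (V : Scheme.{u}) := hV
  have h := (D.bc V.ι).exists_frame_nhd ⟨z, hz⟩ (((D.bcBC V.ι).h0At_iff ⟨z, hz⟩).2 h0)
    ((D.bcBC V.ι).trivAt ⟨z, hz⟩ ht)
  exact D.frameAt_of_bc V.ι ⟨z, hz⟩ h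

variable (hX : GeometricallyIntegral D.qX) (hY : GeometricallyIntegral D.qY)

include hX hY in
/-- With geometrically integral factors the trivial locus is open. -/
theorem frameAt_iff (z : Z) : D.FrameAt z ↔ D.TrivAt z := by
  refine ⟨D.trivAt_of_frameAt, fun ht => ?_⟩
  obtain ⟨V, hV, hz, -⟩ := exists_isAffineOpen_mem_and_subset (X := Z) (x := z) (U := ⊤) trivial
  haveI : IsAffine (V : Scheme.{u}) := hV
  obtain ⟨Z₀, _, g, D₀, ⟨B⟩⟩ := exists_model (D.bc V.ι)
  have h0 : (D.bc V.ι).H0At ⟨z, hz⟩ := ((D.bcBC V.ι).h0At_iff ⟨z, hz⟩).2 (D.h0At hX hY z)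
  have h0' := (B.h0At_iff ⟨z, hz⟩).1 h0
  have ht' := B.trivAt_of ⟨z, hz⟩ h0' ((D.bcBC V.ι).trivAt ⟨z, hz⟩ ht)
  exact D.frameAt_of_bc V.ι ⟨z, hz⟩ (frameAt_of_BC D₀ B _ (D₀.frameAt_of_trivAt_noeth _ h0' ht'))

include hX hY in
/-- The trivial locus is open. -/
theorem isOpen_trivAt : IsOpen {z | D.TrivAt z} := by
  refine isOpen_iff_forall_mem_open.2 fun z hz => ?_
  obtain ⟨U, hzU, e, he⟩ := (D.frameAt_iff hX hY z).2 hz
  exact ⟨U, fun w hw => D.trivAt_of_frameAt ⟨U, hw, e, he⟩, U.2, hzU⟩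

include hX hY in
/-- The trivial locus is closed. -/
theorem isClosed_trivAt_of_integral : IsClosed {z | D.TrivAt z} := by
  refine isOpen_compl_iff.1 (isOpen_iff_forall_mem_open.2 fun z hz => ?_)
  obtain ⟨V, hV, hzV, -⟩ := exists_isAffineOpen_mem_and_subset (X := Z) (x := z) (U := ⊤) trivial
  haveI : IsAffine (V : Scheme.{u}) := hV
  obtain ⟨Z₀, _, g, D₀, ⟨B⟩⟩ := exists_model (D.bc V.ι)
  have h0 : ∀ t, (D.bc V.ι).H0At t := fun t => ((D.bcBC V.ι).h0At_iff t).2 (D.h0At hX hY _)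
  have hX' : GeometricallyIntegral (D.bc V.ι).qX := inferInstanceAs (GeometricallyIntegral (pullback.snd D.qX V.ι))
  have hY' : GeometricallyIntegral (D.bc V.ι).qY := inferInstanceAs (GeometricallyIntegral (pullback.snd D.qY V.ι))
  obtain ⟨N, hN, ⟨eN⟩⟩ := D₀.exists_inv
  have hiff : ∀ t : V.toScheme, D.TrivAt t.1 ↔ ¬NoSec D₀.q D₀.L (g t) ∧ ¬NoSec D₀.q N (g t) := by
    intro t
    have h0' := (B.h0At_iff t).1 (h0 t)
    haveI := B.isIntegral_of t ((D.bc V.ι).isIntegral_fiber hX' hY' t)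
    rw [← D₀.trivAt_iff hN eN h0']
    exact ⟨fun h => B.trivAt_of t h0' ((D.bcBC V.ι).trivAt t h),
      fun h => (D.bcBC V.ι).trivAt_of t (D.h0At hX hY _) (B.trivAt t h)⟩
  have ho := ((isOpen_noSec D₀.q D₀.hL).union (isOpen_noSec D₀.q hN)).preimage g.continuous
  refine ⟨V.ι '' (g ⁻¹' ({w | NoSec D₀.q D₀.L w} ∪ {w | NoSec D₀.q N w})), ?_,
    V.ι.isOpenEmbedding.isOpenMap _ ho, ⟨⟨z, hzV⟩, ?_, rfl⟩⟩
  · rintro _ ⟨t, ht, rfl⟩ h
    have := (hiff t).1 h
    exact ht.elim this.1 this.2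
  · by_contra h
    exact hz ((hiff ⟨z, hzV⟩).2 (not_or.1 h))

include hX hY in
/-- The module is trivial if it is trivial on every fibre. -/
theorem trivial_of_trivAt (h : ∀ z, D.TrivAt z) : Nonempty (D.L ≅ Coh.structureModule D.P) := by
  haveI : GeometricallyIntegral D.a := MorphismProperty.of_isPullback (P := @GeometricallyIntegral) D.H.flip hY
  refine trivial_of_local D.q D.hL (fun U => ?_) D.sec D.sec_q D.sec_triv fun z => (D.frameAt_iff hX hY z).2 (h z)
  haveI := FBase64.geometricallyConnected_of_geometricallyIrreducible D.qX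
  haveI := FBase64.geometricallyConnected_of_geometricallyIrreducible D.a
  have h1 := AbSch7.app_bijective_general D.qX D.x D.hx U
  have h2 := AbSch7.app_bijective_general D.a D.iy D.hiy' (D.qX ⁻¹ᵁ U)
  rw [show (D.q.app U) = D.qX.app U ≫ D.a.app (D.qX ⁻¹ᵁ U) from Scheme.Hom.comp_app D.a D.qX U]
  exact h2.comp h1

include hX hY in
/-- The theorem of the cube. -/
theorem trivial_of_connected [ConnectedSpace Z] (h : ∃ z, D.TrivAt z) :
    Nonempty (D.L ≅ Coh.structureModule D.P) := by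
  refine D.trivial_of_trivAt hX hY fun z => ?_
  have hu : {z | D.TrivAt z} = Set.univ :=
    IsClopen.eq_univ ⟨D.isClosed_trivAt_of_integral hX hY, D.isOpen_trivAt hX hY⟩ h
  exact hu.ge (Set.mem_univ z)

end Datum

end Groth.Agent.Cube73
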