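import Groth.Agent.Cube73.Fn
import Mathlib.LinearAlgebra.TensorProduct.Pi
import Mathlib.LinearAlgebra.TensorProduct.Basis
import Mathlib.LinearAlgebra.Dual.Lemmas

/-!
A cochain on `U × (V_b ∩ V_b')` over a field has a class in `Γ(U) ⊗ H`, where `H` is the cokernel of the
Čech differential of the cover `V` in degree zero; it is a coboundary if and only if its class vanishes.
-/

set_option autoImplicit false
set_option backward.isDefEq.respectTransparency.types false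
set_option linter.style.haveILetI false

noncomputable section

universe u

open CategoryTheory Limits AlgebraicGeometry TopologicalSpace Opposite TensorProduct

namespace Groth.Agent.Cube73

variable {S X Y P : Scheme.{u}} {qX : X ⟶ S} {qY : Y ⟶ S} {qP : P ⟶ S} {a : P ⟶ X} {b : P ⟶ Y}
  (ha : a ≫ qX = qP) (hb : b ≫ qY = qP) {κ : Type} (V : κ → Y.Opens)

/-- Zero cochains. -/
abbrev C0 (qY : Y ⟶ S) := ∀ k : κ, Fn qY (V k)

/-- One cochains. -/
abbrev C1 (qY : Y ⟶ S) := ∀ p : κ × κ, Fn qY (V p.1 ⊓ V p.2)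

/-- The Čech differential. -/
def d0 (qY : Y ⟶ S) : C0 V qY →ₗ[Γ(S, ⊤)] C1 V qY :=
  LinearMap.pi fun p => (rs qY inf_le_left).toLinearMap ∘ₗ LinearMap.proj p.1 -
    (rs qY inf_le_right).toLinearMap ∘ₗ LinearMap.proj p.2

/-- The cokernel of the differential. -/
abbrev H1 (qY : Y ⟶ S) := C1 V qY ⧸ LinearMap.range (d0 V qY)

variable [Fintype κ] [DecidableEq κ]

/-- `Γ(U) ⊗ C¹(V) → C¹(U × V)`. -/
def Θ (U : X.Opens) : Fn qX U ⊗[Γ(S, ⊤)] C1 V qY →ₗ[Γ(S, ⊤)] ∀ p : κ × κ, Fn qP (box a b U (V p.1 ⊓ V p.2)) :=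
  (LinearMap.pi fun p => (θ ha hb U (V p.1 ⊓ V p.2)).toLinearMap ∘ₗ LinearMap.proj p) ∘ₗ
    (TensorProduct.piRight Γ(S, ⊤) Γ(S, ⊤) (Fn qX U) fun p : κ × κ => Fn qY (V p.1 ⊓ V p.2)).toLinearMap

theorem Θ_tmul (U : X.Opens) (u : Fn qX U) (v : C1 V qY) (p : κ × κ) :
    Θ ha hb V U (u ⊗ₜ v) p = pb a ha inf_le_left u * pb b hb inf_le_right (v p) :=
  θ_tmul ha hb U (V p.1 ⊓ V p.2) u (v p)

theorem Θ_bijective (H : IsPullback a b qX qY) [IsAffine S] {U : X.Opens} (hU : IsAffineOpen U)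
    (hV : ∀ k k', IsAffineOpen (V k ⊓ V k')) : Function.Bijective (Θ ha hb V U) := by
  show Function.Bijective ((Pi.map fun p : κ × κ => ⇑(θ ha hb U (V p.1 ⊓ V p.2))) ∘
    ⇑(TensorProduct.piRight Γ(S, ⊤) Γ(S, ⊤) (Fn qX U) fun p : κ × κ => Fn qY (V p.1 ⊓ V p.2)))
  refine Function.Bijective.comp (Function.Bijective.piMap fun p => θ_bijective ha hb H hU (hV p.1 p.2)) ?_
  exact (TensorProduct.piRight Γ(S, ⊤) Γ(S, ⊤) (Fn qX U) fun p : κ × κ => Fn qY (V p.1 ⊓ V p.2)).bijective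

theorem rs_Θ {U U' : X.Opens} (h : U' ≤ U) (z : Fn qX U ⊗[Γ(S, ⊤)] C1 V qY) (p : κ × κ) :
    rs qP (inf_le_inf (a.preimage_mono h) le_rfl) (Θ ha hb V U z p) =
      Θ ha hb V U' ((rs qX h).toLinearMap.rTensor _ z) p := by
  induction z with
  | zero => simp
  | add z z' hz hz' => simp only [map_add, Pi.add_apply, hz, hz']
  | tmul u v =>
    rw [LinearMap.rTensor_tmul, Θ_tmul, Θ_tmul, map_mul, rs_pb, rs_pb]
    congr 1
    exact (pb_rs a ha h inf_le_left u).symm

/-- A zero cochain on `U × V` gives a coboundary. -/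
theorem exists_of_range {U : X.Opens} (z : Fn qX U ⊗[Γ(S, ⊤)] C0 V qY) :
    ∃ g : ∀ k, Fn qP (box a b U (V k)), ∀ p : κ × κ, Θ ha hb V U ((d0 V qY).lTensor _ z) p =
      rs qP (inf_le_inf le_rfl (b.preimage_mono inf_le_left)) (g p.1) -
        rs qP (inf_le_inf le_rfl (b.preimage_mono inf_le_right)) (g p.2) := by
  induction z with
  | zero => exact ⟨0, fun p => by simp⟩
  | add z z' hz hz' =>
    obtain ⟨g, hg⟩ := hz
    obtain ⟨g', hg'⟩ := hz'
    exact ⟨g + g', fun p => by simp only [map_add, Pi.add_apply, hg, hg']; ring⟩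
  | tmul u v =>
    refine ⟨fun k => θ ha hb U (V k) (u ⊗ₜ v k), fun p => ?_⟩
    show _ = rs qP _ (θ ha hb U (V p.1) (u ⊗ₜ v p.1)) - rs qP _ (θ ha hb U (V p.2) (u ⊗ₜ v p.2))
    rw [LinearMap.lTensor_tmul, Θ_tmul, θ_tmul, θ_tmul, map_mul, map_mul, rs_pb, rs_pb, rs_pb, rs_pb]
    show _ * pb b hb _ (rs qY _ (v p.1) - rs qY _ (v p.2)) = _
    rw [map_sub, pb_rs, pb_rs, mul_sub]

/-- A difference of zero cochains comes from the differential. -/
theorem exists_range_of (H : IsPullback a b qX qY) [IsAffine S] {U : X.Opens} (hU : IsAffineOpen U)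
    (hV : ∀ k, IsAffineOpen (V k)) (g : ∀ k, Fn qP (box a b U (V k))) :
    ∃ z : Fn qX U ⊗[Γ(S, ⊤)] C0 V qY, ∀ p : κ × κ, Θ ha hb V U ((d0 V qY).lTensor _ z) p =
      rs qP (inf_le_inf le_rfl (b.preimage_mono inf_le_left)) (g p.1) -
        rs qP (inf_le_inf le_rfl (b.preimage_mono inf_le_right)) (g p.2) := by
  choose w hw using fun k => (θ_bijective ha hb H hU (hV k)).2 (g k)
  let e := TensorProduct.piRight Γ(S, ⊤) Γ(S, ⊤) (Fn qX U) fun k : κ => Fn qY (V k)
  refine ⟨e.symm w, fun p => ?_⟩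
  have key : ∀ z, Θ ha hb V U ((d0 V qY).lTensor _ z) p =
      rs qP (inf_le_inf le_rfl (b.preimage_mono inf_le_left)) (θ ha hb U (V p.1) (e z p.1)) -
        rs qP (inf_le_inf le_rfl (b.preimage_mono inf_le_right)) (θ ha hb U (V p.2) (e z p.2)) := by
    intro z
    induction z with
    | zero => simp
    | add z z' hz hz' => simp only [map_add, Pi.add_apply, hz, hz']; ring
    | tmul u v =>
      show _ = rs qP _ (θ ha hb U (V p.1) (u ⊗ₜ v p.1)) - rs qP _ (θ ha hb U (V p.2) (u ⊗ₜ v p.2))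
      rw [LinearMap.lTensor_tmul, Θ_tmul, θ_tmul, θ_tmul, map_mul, map_mul, rs_pb, rs_pb, rs_pb, rs_pb]
      show _ * pb b hb _ (rs qY _ (v p.1) - rs qY _ (v p.2)) = _
      rw [map_sub, pb_rs, pb_rs, mul_sub]
  rw [key, LinearEquiv.apply_symm_apply, hw, hw]

/-- An element of a tensor product over a field is zero when all its coordinates are. -/
theorem eq_zero_of_forall_dual {K M N : Type u} [CommRing K] (hK : IsField K) [AddCommGroup M] [Module K M]
    [AddCommGroup N] [Module K N] (z : M ⊗[K] N)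
    (h : ∀ φ : Module.Dual K N, TensorProduct.rid K M (φ.lTensor M z) = 0) : z = 0 := by
  letI := hK.toField
  obtain ⟨ι, B⟩ := Module.Free.exists_basis K N
  classical
  apply (TensorProduct.equivFinsuppOfBasisRight B).injective
  ext i
  rw [map_zero, Finsupp.zero_apply, TensorProduct.equivFinsuppOfBasisRight_apply]
  exact h _

end Groth.Agent.Cube73
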