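import Groth.Agent.Cube73.Classes
import Mathlib.Topology.Sheaves.SheafCondition.UniqueGluing

/-!
Infinitesimal form of the theorem of the cube: a one-cocycle of functions on the product cover of a
product of two schemes over a field, both with only constant functions, which is a coboundary on both
slices through rational points, is a coboundary.
-/

set_option autoImplicit false
set_option backward.isDefEq.respectTransparency.types false
set_option linter.style.haveILetI false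

noncomputable section

universe u

open CategoryTheory Limits AlgebraicGeometry TopologicalSpace Opposite TensorProduct

namespace Groth.Agent.Cube73

variable {S X Y P : Scheme.{u}} {qX : X ⟶ S} {qY : Y ⟶ S} {qP : P ⟶ S} {a : P ⟶ X} {b : P ⟶ Y}

theorem fn_id_algebraMap (r : Γ(S, ⊤)) :
    algebraMap Γ(S, ⊤) (Fn (𝟙 S) ⊤) r = (show Fn (𝟙 S) ⊤ from r) :=
  ConcreteCategory.congr_hom (show (𝟙 S : S ⟶ S).appLE ⊤ ⊤ le_top = 𝟙 _ by
    rw [Scheme.Hom.appLE, Scheme.Hom.id_app]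
    exact (Category.id_comp _).trans (S.presheaf.map_id _)) r

/-- The value of a function at a section of the structure morphism. -/
def evSec (x : S ⟶ X) (hx : x ≫ qX = 𝟙 S) {U : X.Opens} (hU : x ⁻¹ᵁ U = ⊤) : Fn qX U →ₗ[Γ(S, ⊤)] Γ(S, ⊤) where
  toFun f := (show Γ(S, ⊤) from pb x hx hU.ge f)
  map_add' f f' := map_add (pb x hx hU.ge) f f'
  map_smul' r f := by
    refine (map_smul (pb x hx hU.ge) r f).trans ?_
    rw [Algebra.smul_def, fn_id_algebraMap]
    rfl

/-- Compatible functions on a cover glue. -/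
theorem fn_glue {ι : Type} (q : X ⟶ S) {O : X.Opens} (U : ι → X.Opens) (hU : ∀ i, U i ≤ O)
    (hcov : ∀ x ∈ O, ∃ i, x ∈ U i) (f : ∀ i, Fn q (U i))
    (h : ∀ i j, rs q (inf_le_left : U i ⊓ U j ≤ U i) (f i) = rs q (inf_le_right : U i ⊓ U j ≤ U j) (f j)) :
    ∃ F : Fn q O, ∀ i, rs q (hU i) F = f i := by
  obtain ⟨F, hF, -⟩ := X.sheaf.existsUnique_gluing' U O (fun i => homOfLE (hU i))
    (fun x hx => Opens.mem_iSup.mpr (hcov x hx)) (fun i => (show Γ(X, U i) from f i)) fun i j => h i j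
  exact ⟨F, hF⟩

/-- Functions which agree on a cover are equal. -/
theorem fn_ext {ι : Type} (q : X ⟶ S) {O : X.Opens} (U : ι → X.Opens) (hU : ∀ i, U i ≤ O)
    (hcov : ∀ x ∈ O, ∃ i, x ∈ U i) (f g : Fn q O) (h : ∀ i, rs q (hU i) f = rs q (hU i) g) : f = g :=
  X.sheaf.eq_of_locally_eq' U O (fun i => homOfLE (hU i))
    (fun x hx => Opens.mem_iSup.mpr (hcov x hx)) _ _ h

variable {ι κ : Type} [Fintype κ] [DecidableEq κ] {U : ι → X.Opens} {V : κ → Y.Opens}

/-- The cover of the product. -/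
abbrev W2 (a : P ⟶ X) (b : P ⟶ Y) (U : ι → X.Opens) (V : κ → Y.Opens) (i : ι × κ) : P.Opens :=
  box a b (U i.1) (V i.2)

variable (ha : a ≫ qX = qP) (hb : b ≫ qY = qP) (c : ∀ i j : ι × κ, Fn qP (W2 a b U V i ⊓ W2 a b U V j))
  (hc : ∀ (i j l : ι × κ) (O : P.Opens) (hi : O ≤ W2 a b U V i) (hj : O ≤ W2 a b U V j) (hl : O ≤ W2 a b U V l),
    rs qP (le_inf hi hj) (c i j) + rs qP (le_inf hj hl) (c j l) = rs qP (le_inf hi hl) (c i l))

include ha hb hc in
theorem coboundary_same (H : IsPullback a b qX qY) [IsAffine S] (hK : IsField Γ(S, ⊤))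
    (hX : Function.Bijective qX.appTop)
    (hU : ∀ α, IsAffineOpen (U α)) (hU2 : ∀ α α', IsAffineOpen (U α ⊓ U α')) (hcov : ∀ t : X, ∃ α, t ∈ U α)
    (hV : ∀ k, IsAffineOpen (V k)) (hV2 : ∀ k k', IsAffineOpen (V k ⊓ V k'))
    (x : S ⟶ X) (hx : x ≫ qX = 𝟙 S) (ix : Y ⟶ P) (hix : ix ≫ a = qY ≫ x) (hix' : ix ≫ b = 𝟙 Y)
    (α₀ : ι) (hα₀ : x ⁻¹ᵁ U α₀ = ⊤) (r : ∀ k, Fn qY (V k))
    (hr : ∀ k k' (e : V k ⊓ V k' ≤ ix ⁻¹ᵁ (W2 a b U V (α₀, k) ⊓ W2 a b U V (α₀, k'))),
      pb (q' := qY) ix (by rw [← hb, reassoc_of% hix']) e (c (α₀, k) (α₀, k')) =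
        rs qY inf_le_left (r k) - rs qY inf_le_right (r k'))
    (α : ι) :
    ∃ g : ∀ k, Fn qP (W2 a b U V (α, k)), ∀ k k',
      c (α, k) (α, k') = rs qP inf_le_left (g k) - rs qP inf_le_right (g k') := by
  -- the cochain of `α` on the opens `U α × (V ∩ V)`
  let cc : ∀ (β : ι) (p : κ × κ), Fn qP (box a b (U β) (V p.1 ⊓ V p.2)) := fun β p =>
    rs qP (le_inf (inf_le_inf le_rfl (b.preimage_mono inf_le_left))
      (inf_le_inf le_rfl (b.preimage_mono inf_le_right))) (c (β, p.1) (β, p.2))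
  choose C hC using fun β => (Θ_bijective ha hb V H (hU β) hV2).2 (cc β)
  let e : ∀ β, Fn qX (U β) ⊗[Γ(S, ⊤)] H1 V qY := fun β => (Submodule.mkQ _).lTensor _ (C β)
  -- classes agree on overlaps
  have hagree : ∀ β γ : ι, (rs qX (inf_le_left : U β ⊓ U γ ≤ U β)).toLinearMap.rTensor _ (e β) =
      (rs qX (inf_le_right : U β ⊓ U γ ≤ U γ)).toLinearMap.rTensor _ (e γ) := by
    intro β γ
    let O := U β ⊓ U γ
    let g : ∀ k, Fn qP (box a b O (V k)) := fun k =>
      rs qP (le_inf (inf_le_inf (a.preimage_mono inf_le_left) le_rfl)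
        (inf_le_inf (a.preimage_mono inf_le_right) le_rfl)) (c (β, k) (γ, k))
    obtain ⟨z, hz⟩ := exists_range_of ha hb V H (hU2 β γ) hV g
    have key : (rs qX (inf_le_left : O ≤ U β)).toLinearMap.rTensor _ (C β) -
        (rs qX (inf_le_right : O ≤ U γ)).toLinearMap.rTensor _ (C γ) = (d0 V qY).lTensor _ z := by
      refine (Θ_bijective ha hb V H (hU2 β γ) hV2).1 (funext fun p => ?_)
      rw [hz, map_sub, Pi.sub_apply, ← rs_Θ ha hb V (inf_le_left : O ≤ U β), ← rs_Θ ha hb V (inf_le_right : O ≤ U γ), hC, hC]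
      simp only [cc, g, rs_rs]
      let B := box a b O (V p.1 ⊓ V p.2)
      have b1 : B ≤ W2 a b U V (β, p.1) := inf_le_inf (a.preimage_mono inf_le_left) (b.preimage_mono inf_le_left)
      have b2 : B ≤ W2 a b U V (β, p.2) := inf_le_inf (a.preimage_mono inf_le_left) (b.preimage_mono inf_le_right)
      have b3 : B ≤ W2 a b U V (γ, p.1) := inf_le_inf (a.preimage_mono inf_le_right) (b.preimage_mono inf_le_left)
      have b4 : B ≤ W2 a b U V (γ, p.2) := inf_le_inf (a.preimage_mono inf_le_right) (b.preimage_mono inf_le_right)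
      linear_combination hc (β, p.1) (β, p.2) (γ, p.2) B b1 b2 b4 - hc (β, p.1) (γ, p.1) (γ, p.2) B b1 b3 b4
    have := congrArg ((Submodule.mkQ (LinearMap.range (d0 V qY))).lTensor (Fn qX O)) key
    rw [map_sub, ← LinearMap.comp_apply, ← LinearMap.comp_apply, LinearMap.lTensor_comp_rTensor,
      LinearMap.lTensor_comp_rTensor, ← LinearMap.comp_apply (x := z), ← LinearMap.lTensor_comp] at this
    rw [show (Submodule.mkQ (LinearMap.range (d0 V qY))) ∘ₗ d0 V qY = 0 from LinearMap.range_mkQ_comp _,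
      LinearMap.lTensor_zero, LinearMap.zero_apply, sub_eq_zero] at this
    simp only [e, ← LinearMap.comp_apply, LinearMap.rTensor_comp_lTensor]
    exact this
  -- the classes vanish
  have hzero : ∀ β, e β = 0 := by
    suffices h : ∀ φ : Module.Dual Γ(S, ⊤) (H1 V qY), ∀ β, TensorProduct.rid _ _ (φ.lTensor _ (e β)) = 0 from
      fun β => eq_zero_of_forall_dual hK _ fun φ => h φ β
    intro φ
    let f : ∀ β, Fn qX (U β) := fun β => TensorProduct.rid _ _ (φ.lTensor _ (e β))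
    have hnat : ∀ {O O' : X.Opens} (h : O' ≤ O) (z : Fn qX O ⊗[Γ(S, ⊤)] H1 V qY),
        rs qX h (TensorProduct.rid _ _ (φ.lTensor _ z)) =
          TensorProduct.rid _ _ (φ.lTensor _ ((rs qX h).toLinearMap.rTensor _ z)) := by
      intro O O' h z
      induction z with
      | zero => simp
      | add z z' hz hz' => simp only [map_add, hz, hz']
      | tmul u v =>
        simp only [LinearMap.lTensor_tmul, LinearMap.rTensor_tmul, TensorProduct.rid_tmul, map_smul]
        rfl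
    obtain ⟨F, hF⟩ := fn_glue qX U (fun _ => le_top) (fun t _ => hcov t) f fun β γ => by
      rw [hnat, hnat, hagree]
    obtain ⟨k, hk⟩ := hX.2 (show Γ(X, ⊤) from F)
    have hFk : F = algebraMap Γ(S, ⊤) (Fn qX ⊤) k := by
      refine Eq.trans ?_ (ConcreteCategory.congr_hom (Scheme.Hom.app_eq_appLE qX (U := ⊤)) k)
      exact hk.symm
    have hf : ∀ β, f β = algebraMap Γ(S, ⊤) (Fn qX (U β)) k := fun β => by
      rw [← hF β, hFk]; exact (rs qX le_top).commutes k
    -- evaluate at the section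
    let w : C1 V qY := TensorProduct.lid _ _ ((evSec x hx hα₀).rTensor _ (C α₀))
    have hev : ∀ z : Fn qX (U α₀) ⊗[Γ(S, ⊤)] C1 V qY, φ (Submodule.mkQ _ (TensorProduct.lid _ _ ((evSec x hx hα₀).rTensor _ z))) =
        evSec x hx hα₀ (TensorProduct.rid _ _ (φ.lTensor _ ((Submodule.mkQ _).lTensor _ z))) := by
      intro z
      induction z with
      | zero => simp
      | add z z' hz hz' => simp only [map_add, hz, hz']
      | tmul u v =>
        simp only [LinearMap.lTensor_tmul, LinearMap.rTensor_tmul, TensorProduct.rid_tmul, TensorProduct.lid_tmul,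
          map_smul, smul_eq_mul]
        exact mul_comm _ _
    have hix_q : ix ≫ qP = qY := by rw [← hb, reassoc_of% hix']
    have hpre : ∀ O : Y.Opens, O ≤ ix ⁻¹ᵁ box a b (U α₀) O := fun O => by
      intro t ht
      refine ⟨?_, ?_⟩
      · show (ix ≫ a) t ∈ U α₀
        rw [hix]
        show qY t ∈ x ⁻¹ᵁ U α₀
        rw [hα₀]; trivial
      · show (ix ≫ b) t ∈ O
        rw [hix']; exact ht
    have hwev : ∀ (z : Fn qX (U α₀) ⊗[Γ(S, ⊤)] C1 V qY) (p : κ × κ),
        pb (q' := qY) ix hix_q (hpre (V p.1 ⊓ V p.2)) (Θ ha hb V (U α₀) z p) =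
          (TensorProduct.lid _ _ ((evSec x hx hα₀).rTensor _ z)) p := by
      intro z p
      induction z with
      | zero => simp
      | add z z' hz hz' => simp only [map_add, Pi.add_apply, hz, hz']
      | tmul u v =>
        rw [Θ_tmul, map_mul, LinearMap.rTensor_tmul, TensorProduct.lid_tmul, Pi.smul_apply, pb_pb, pb_pb,
          pb_congr hix', pb_congr hix, Algebra.smul_def]
        congr 1
        · have hx' : qY ≫ 𝟙 S = qY := Category.comp_id _
          rw [← pb_pb x hx qY hx' hα₀.ge le_top u]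
          rfl
        · rw [pb_id]
          exact rs_self qY _
        · exact fun t _ => show qY t ∈ x ⁻¹ᵁ U α₀ by rw [hα₀]; trivial
        · exact fun t ht => ht
    have hwr : w = d0 V qY r := by
      refine funext fun p => ?_
      rw [show w p = _ from (hwev (C α₀) p).symm, hC]
      show pb ix _ _ (rs qP _ (c (α₀, p.1) (α₀, p.2))) = rs qY _ (r p.1) - rs qY _ (r p.2)
      rw [pb_rs]
      exact hr p.1 p.2 _
    have hk0 : k = 0 := by
      have h1 : φ (Submodule.mkQ _ w) = evSec x hx hα₀ (f α₀) := hev (C α₀)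
      rw [hwr, Submodule.mkQ_apply, (Submodule.Quotient.mk_eq_zero _).2 (LinearMap.mem_range_self _ _), map_zero,
        hf] at h1
      refine Eq.trans ?_ h1.symm
      show k = (show Γ(S, ⊤) from pb x hx hα₀.ge (algebraMap _ _ k))
      rw [AlgHom.commutes, fn_id_algebraMap]
    intro β
    exact (hf β).trans (by rw [hk0, map_zero])
  obtain ⟨z, hz⟩ := (LinearMap.exact_iff.1 (lTensor_exact (Fn qX (U α)) (LinearMap.exact_map_mkQ_range (d0 V qY))
    (Submodule.mkQ_surjective _))).le (LinearMap.mem_ker.2 (hzero α))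
  obtain ⟨g, hg⟩ := exists_of_range ha hb V z
  refine ⟨g, fun k k' => ?_⟩
  have h := hg (k, k')
  rw [hz, hC] at h
  have hB : W2 a b U V (α, k) ⊓ W2 a b U V (α, k') ≤ box a b (U α) (V k ⊓ V k') :=
    fun t ht => ⟨ht.1.1, ht.1.2, ht.2.2⟩
  have h2 := congrArg (rs qP hB) h
  simp only [cc, map_sub, rs_rs] at h2
  rw [← rs_self qP (c (α, k) (α, k'))]
  exact h2

include ha hb hc in
/-- **Infinitesimal theorem of the cube.** -/
theorem exists_coboundary (H : IsPullback a b qX qY) [IsAffine S] (hK : IsField Γ(S, ⊤))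
    (hX : Function.Bijective qX.appTop)
    (hU : ∀ α, IsAffineOpen (U α)) (hU2 : ∀ α α', IsAffineOpen (U α ⊓ U α')) (hcov : ∀ t : X, ∃ α, t ∈ U α)
    (hV : ∀ k, IsAffineOpen (V k)) (hV2 : ∀ k k', IsAffineOpen (V k ⊓ V k')) (hVcov : ∀ t : Y, ∃ k, t ∈ V k)
    (hab : ∀ α α', Function.Bijective (a.app (U α ⊓ U α')))
    (x : S ⟶ X) (hx : x ≫ qX = 𝟙 S) (ix : Y ⟶ P) (hix : ix ≫ a = qY ≫ x) (hix' : ix ≫ b = 𝟙 Y)
    (α₀ : ι) (hα₀ : x ⁻¹ᵁ U α₀ = ⊤) (r : ∀ k, Fn qY (V k))
    (hr : ∀ k k' (e : V k ⊓ V k' ≤ ix ⁻¹ᵁ (W2 a b U V (α₀, k) ⊓ W2 a b U V (α₀, k'))),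
      pb (q' := qY) ix (by rw [← hb, reassoc_of% hix']) e (c (α₀, k) (α₀, k')) =
        rs qY inf_le_left (r k) - rs qY inf_le_right (r k'))
    (y : S ⟶ Y) (iy : X ⟶ P) (hiy : iy ≫ b = qX ≫ y) (hiy' : iy ≫ a = 𝟙 X)
    (k₀ : κ) (hk₀ : y ⁻¹ᵁ V k₀ = ⊤) (s : ∀ α, Fn qX (U α))
    (hs : ∀ α α' (e : U α ⊓ U α' ≤ iy ⁻¹ᵁ (W2 a b U V (α, k₀) ⊓ W2 a b U V (α', k₀))),
      pb (q' := qX) iy (by rw [← ha, reassoc_of% hiy']) e (c (α, k₀) (α', k₀)) =
        rs qX inf_le_left (s α) - rs qX inf_le_right (s α')) :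
    ∃ h : ∀ i, Fn qP (W2 a b U V i), ∀ i j, c i j = rs qP inf_le_left (h i) - rs qP inf_le_right (h j) := by
  choose g hg using coboundary_same ha hb c hc H hK hX hU hU2 hcov hV hV2 x hx ix hix hix' α₀ hα₀ r hr
  have hiy_q : iy ≫ qP = qX := by rw [← ha, reassoc_of% hiy']
  have hpre : ∀ α, U α ≤ iy ⁻¹ᵁ W2 a b U V (α, k₀) := fun α t ht => by
    refine ⟨?_, ?_⟩
    · show (iy ≫ a) t ∈ U α
      rw [hiy']; exact ht
    · show (iy ≫ b) t ∈ V k₀
      rw [hiy]
      show qX t ∈ y ⁻¹ᵁ V k₀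
      rw [hk₀]; trivial
  let s' : ∀ α, Fn qX (U α) := fun α => s α - pb iy hiy_q (hpre α) (g α k₀)
  refine ⟨fun i => g i.1 i.2 + pb a ha inf_le_left (s' i.1), fun i j => ?_⟩
  -- the corrected cocycle between the two indices `α`, `α'`
  have main : ∀ α α', ∃ E : Fn qP (a ⁻¹ᵁ (U α ⊓ U α')), ∀ k,
      rs qP (inf_le_left : box a b (U α ⊓ U α') (V k) ≤ _) E =
        rs qP (le_inf (inf_le_inf (a.preimage_mono inf_le_left) le_rfl)
            (inf_le_inf (a.preimage_mono inf_le_right) le_rfl)) (c (α, k) (α', k)) -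
          rs qP (inf_le_inf (a.preimage_mono inf_le_left) le_rfl) (g α k) +
          rs qP (inf_le_inf (a.preimage_mono inf_le_right) le_rfl) (g α' k) := by
    intro α α'
    obtain ⟨E, hE⟩ := fn_glue qP (fun k => box a b (U α ⊓ U α') (V k)) (fun k => inf_le_left)
      (fun t ht => (hVcov (b t)).imp fun k hk => ⟨ht, hk⟩)
      (fun k => rs qP (le_inf (inf_le_inf (a.preimage_mono inf_le_left) le_rfl)
            (inf_le_inf (a.preimage_mono inf_le_right) le_rfl)) (c (α, k) (α', k)) -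
          rs qP (inf_le_inf (a.preimage_mono inf_le_left) le_rfl) (g α k) +
          rs qP (inf_le_inf (a.preimage_mono inf_le_right) le_rfl) (g α' k)) (fun k k' => by
        simp only [map_add, map_sub, rs_rs]
        let B := box a b (U α ⊓ U α') (V k) ⊓ box a b (U α ⊓ U α') (V k')
        have b1 : B ≤ W2 a b U V (α, k) := fun t ht => ⟨ht.1.1.1, ht.1.2⟩
        have b2 : B ≤ W2 a b U V (α, k') := fun t ht => ⟨ht.1.1.1, ht.2.2⟩
        have b3 : B ≤ W2 a b U V (α', k) := fun t ht => ⟨ht.1.1.2, ht.1.2⟩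
        have b4 : B ≤ W2 a b U V (α', k') := fun t ht => ⟨ht.1.1.2, ht.2.2⟩
        have e1 := congrArg (rs qP (le_inf b1 b2)) (hg α k k')
        have e2 := congrArg (rs qP (le_inf b3 b4)) (hg α' k k')
        simp only [map_sub, rs_rs] at e1 e2
        linear_combination hc (α, k) (α', k) (α', k') B b1 b3 b4 - hc (α, k) (α, k') (α', k') B b1 b2 b4 + e1 - e2)
    exact ⟨E, hE⟩
  obtain ⟨E, hE⟩ := main i.1 j.1
  let O := U i.1 ⊓ U j.1
  obtain ⟨f₀, hf₀⟩ := (hab i.1 j.1).2 (show Γ(P, a ⁻¹ᵁ O) from E)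
  let f : Fn qX O := f₀
  have hEf : E = pb a ha le_rfl f :=
    hf₀.symm.trans (ConcreteCategory.congr_hom (Scheme.Hom.app_eq_appLE a (U := O)) f₀)
  have hfs : f = rs qX inf_le_left (s' i.1) - rs qX inf_le_right (s' j.1) := by
    have hO : O ≤ iy ⁻¹ᵁ box a b O (V k₀) := fun t ht => ⟨by
      show (iy ≫ a) t ∈ O
      rw [hiy']; exact ht, (hpre i.1 ht.1).2⟩
    have h1 := congrArg (pb (q' := qX) iy hiy_q hO) (hE k₀)
    simp only [hEf, map_add, map_sub, rs_pb, pb_pb, pb_rs] at h1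
    rw [pb_congr hiy' _ _ (show O ≤ (𝟙 X) ⁻¹ᵁ O from le_rfl), pb_id (le_refl O), rs_self, hs] at h1
    rw [h1]
    simp only [s', map_sub, rs_pb]
    ring
  have hB : W2 a b U V i ⊓ W2 a b U V j ≤ box a b O (V i.2) := fun t ht => ⟨⟨ht.1.1, ht.2.1⟩, ht.1.2⟩
  have h2 := congrArg (rs qP hB) (hE i.2)
  have b1 : W2 a b U V i ⊓ W2 a b U V j ≤ W2 a b U V (j.1, i.2) := fun t ht => ⟨ht.2.1, ht.1.2⟩
  have e2 := congrArg (rs qP (le_inf b1 inf_le_right)) (hg j.1 i.2 j.2)
  simp only [map_add, map_sub, rs_rs, hEf, hfs, rs_pb, pb_rs] at h2 e2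
  have h3 := hc i (j.1, i.2) j _ inf_le_left b1 inf_le_right
  simp only [map_add, rs_pb]
  rw [← rs_self qP (c i j)]
  linear_combination -h3 - h2 + e2

end Groth.Agent.Cube73
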