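import Groth.Agent.Cube73.Small
import Groth.Agent.FF71.Rees
import Groth.Agent.FF71.Sections
import Groth.Agent.LimTop61.PullBC
import Groth.Agent.Props58.LocFree.Affine
import Groth.Agent.Amp73.PullTensor
import Groth.Agent.EGA73.Invertible
import Mathlib.AlgebraicGeometry.Morphisms.Flat
import Mathlib.RingTheory.Flat.Stability

/-!
Sections of modules modulo an ideal of the base ring, and the closed fibre.
-/

set_option autoImplicit false
set_option maxSynthPendingDepth 6
set_option linter.style.haveILetI false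
set_option linter.unusedSectionVars false
set_option backward.isDefEq.respectTransparency.types false

noncomputable section

universe u

open CategoryTheory Limits AlgebraicGeometry TopologicalSpace Opposite TensorProduct

namespace Groth.Agent.Cube73

open QC70 FF71

variable {A : Type u} [CommRing A] {X : Scheme.{u}} [X.Over (Spec (CommRingCat.of A))]

/-- The `A`-module of sections. -/
@[reducible] def modA (M : X.Modules) (V : X.Opens) : Module A Γ(M, V) := Module.compHom _ (rA A X V)

theorem mem_secI_iff {J : Ideal A} {M : X.Modules} {V : X.Opens} (x : Γ(M, V)) :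
    x ∈ secI A J M V ↔ (letI := modA (A := A) M V; x ∈ J • (⊤ : Submodule A Γ(M, V))) := by
  letI := modA (A := A) M V
  constructor
  · exact fun hx => secI_induction (P := fun x => x ∈ J • (⊤ : Submodule A Γ(M, V))) (zero_mem _)
      (fun _ _ => add_mem) (fun a ha m => Submodule.smul_mem_smul ha trivial) hx
  · exact fun hx => Submodule.smul_induction_on hx (fun a ha m _ => smul_mem_secI ha m) fun _ _ => add_mem

theorem map_ideal_iff {J : Ideal A} {V : X.Opens} (x : Γ(X, V)) :
    x ∈ J.map (rA A X V) ↔ (letI := (rA A X V).toAlgebra; x ∈ J • (⊤ : Submodule A Γ(X, V))) := by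
  letI := (rA A X V).toAlgebra
  rw [Ideal.smul_top_eq_map]
  rfl

theorem flat_fun [Flat (X ↘ Spec (CommRingCat.of A))] {V : X.Opens} (hV : IsAffineOpen V) :
    letI := (rA A X V).toAlgebra
    Module.Flat A Γ(X, V) := by
  letI := (rA A X V).toAlgebra
  have h : RingHom.Flat ((X ↘ Spec (CommRingCat.of A)).appLE ⊤ V le_top).hom :=
    HasRingHomProperty.appLE @Flat _ inferInstance ⟨⊤, isAffineOpen_top _⟩ ⟨V, hV⟩ le_top
  have h2 : RingHom.Flat (rA A X V) :=
    (RingHom.Flat.of_bijective (ConcreteCategory.bijective_of_isIso (Scheme.ΓSpecIso (CommRingCat.of A)).inv)).comp h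
  exact h2

theorem flat_sec [Flat (X ↘ Spec (CommRingCat.of A))] {L : X.Modules} (hL : FlatMod.IsFinLocFree L) {V : X.Opens}
    (hV : IsAffineOpen V) :
    letI := modA (A := A) L V
    Module.Flat A Γ(L, V) := by
  letI := (rA A X V).toAlgebra
  letI := modA (A := A) L V
  haveI : IsScalarTower A Γ(X, V) Γ(L, V) := IsScalarTower.of_algebraMap_smul fun _ _ => rfl
  haveI := flat_fun (A := A) hV
  haveI := Props58.LocFree.projective_sections hL hV
  exact Module.Flat.trans A Γ(X, V) Γ(L, V)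

variable (m : Ideal A)

/-- The closed fibre. -/
abbrev fib (X : Scheme.{u}) [X.Over (Spec (CommRingCat.of A))] (m : Ideal A) : Scheme.{u} := bc A X (A ⧸ m)

/-- Its inclusion. -/
abbrev fibι (X : Scheme.{u}) [X.Over (Spec (CommRingCat.of A))] (m : Ideal A) : fib X m ⟶ X := bcπ A X (A ⧸ m)

theorem fun_fib {V : X.Opens} (hV : IsAffineOpen V) :
    Function.Surjective ((fibι X m).app V) ∧
      ∀ f : Γ(X, V), (fibι X m).app V f = 0 ↔ f ∈ m.map (rA A X V) := by
  letI := (rA A X V).toAlgebra
  obtain ⟨e, he, -⟩ := exists_bc_equiv A X (A ⧸ m) hV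
  let e' := TensorProduct.tensorQuotEquivQuotSMul Γ(X, V) m
  have hfac : ∀ f : Γ(X, V), (fibι X m).app V f = e (e'.symm (Submodule.Quotient.mk f)) := fun f => by
    rw [← he f]
    congr 1
  refine ⟨fun y => ?_, fun f => ?_⟩
  · obtain ⟨z, hz⟩ := Submodule.Quotient.mk_surjective _ (e' (e.symm y))
    exact ⟨z, by rw [hfac, hz, LinearEquiv.symm_apply_apply, RingEquiv.apply_symm_apply]⟩
  · rw [hfac, map_eq_zero_iff e e.injective, LinearEquiv.map_eq_zero_iff, Submodule.Quotient.mk_eq_zero,
      map_ideal_iff]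

theorem sec_fib {L : X.Modules} [L.IsQuasicoherent] {V : X.Opens} (hV : IsAffineOpen V) :
    Function.Surjective (Amp73.pullS (fibι X m) L V) ∧
      ∀ x : Γ(L, V), Amp73.pullS (fibι X m) L V x = 0 ↔ x ∈ secI A m L V := by
  have hV' : IsAffineOpen (fibι X m ⁻¹ᵁ V) := hV.preimage _
  obtain ⟨hs, hk⟩ := fun_fib m hV
  obtain ⟨E, hE⟩ := LimTop61.exists_baseChange_equiv (fibι X m) L hV hV' le_rfl
  let φ := (fibι X m).appLE V (fibι X m ⁻¹ᵁ V) le_rfl
  letI := φ.hom.toAlgebra
  have hφ : ∀ f, φ f = (fibι X m).app V f := fun f =>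
    (ConcreteCategory.congr_hom (Scheme.Hom.app_eq_appLE (fibι X m) (U := V)) f).symm
  have hE' : ∀ x, E (Amp73.pullS (fibι X m) L V x) = 1 ⊗ₜ x := fun x => by
    rw [← hE x]
    exact congrArg E (QC70.res_self _).symm
  refine ⟨fun y => ?_, fun x => ⟨fun h => ?_, fun h => ?_⟩⟩
  · obtain ⟨x, hx⟩ : ∃ x, (1 : Γ(fib X m, fibι X m ⁻¹ᵁ V)) ⊗ₜ[Γ(X, V)] x = E y := by
      generalize E y = z
      induction z with
      | zero => exact ⟨0, TensorProduct.tmul_zero _ _⟩
      | add a b ha hb =>
        obtain ⟨x, rfl⟩ := ha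
        obtain ⟨x', rfl⟩ := hb
        exact ⟨x + x', TensorProduct.tmul_add _ _ _⟩
      | tmul a x =>
        obtain ⟨f, rfl⟩ := hs a
        exact ⟨f • x, by rw [← TensorProduct.smul_tmul, Algebra.smul_def, mul_one]; exact congrArg (· ⊗ₜ[Γ(X, V)] x) (hφ f)⟩
    exact ⟨x, E.injective (by rw [hE', hx])⟩
  · have h1 : (1 : Γ(fib X m, fibι X m ⁻¹ᵁ V)) ⊗ₜ[Γ(X, V)] x = 0 := by rw [← hE', h, map_zero]
    let I := RingHom.ker φ.hom
    let q : (Γ(X, V) ⧸ I) ≃ₗ[Γ(X, V)] Γ(fib X m, fibι X m ⁻¹ᵁ V) :=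
      LinearEquiv.ofBijective (Submodule.liftQ I (Algebra.linearMap Γ(X, V) _) fun f hf => LinearMap.mem_ker.2 (RingHom.mem_ker.1 hf))
        ⟨by
          refine LinearMap.ker_eq_bot.1 (Submodule.ker_liftQ_eq_bot _ _ _ fun f hf => ?_)
          exact RingHom.mem_ker.2 (LinearMap.mem_ker.1 hf), fun a => (hs a).elim fun f hf => ⟨Submodule.Quotient.mk f, (Submodule.liftQ_apply _ _ _).trans ((hφ f).trans hf)⟩⟩
    have h2 : (1 : Γ(X, V) ⧸ I) ⊗ₜ[Γ(X, V)] x = 0 := by
      apply (TensorProduct.congr q (LinearEquiv.refl _ _)).injective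
      rw [map_zero, TensorProduct.congr_tmul]
      refine Eq.trans ?_ h1
      congr 1
      exact map_one φ.hom
    have h3 := congrArg (TensorProduct.quotTensorEquivQuotSMul Γ(L, V) I) h2
    rw [map_zero, TensorProduct.quotTensorEquivQuotSMul_mk_one_tmul, Submodule.Quotient.mk_eq_zero] at h3
    have hI : I = m.map (rA A X V) := by
      ext f
      rw [RingHom.mem_ker, ← hk]
      exact Eq.congr_left (hφ f)
    rw [hI] at h3
    exact h3
  · refine secI_induction (P := fun x => Amp73.pullS (fibι X m) L V x = 0) (map_zero _) ?_ ?_ h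
    · intro a b ha hb
      exact (map_add _ _ _).trans ((congrArg₂ (· + ·) ha hb).trans (add_zero _))
    · intro a ha y
      refine (Amp73.pullS_smul _ L V _ y).trans ?_
      rw [(hk _).2 (Ideal.mem_map_of_mem _ ha), zero_smul]

end Groth.Agent.Cube73
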