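import Groth.Agent.Cube73.Cocycle
import Groth.Agent.Cube73.ModI
import Groth.Agent.Rig93.Fibre
import Mathlib.AlgebraicGeometry.Morphisms.Affine
import Mathlib.AlgebraicGeometry.Morphisms.Separated

/-!
The infinitesimal theorem of the cube for cochains of functions modulo the maximal ideal of the base.
-/

set_option autoImplicit false
set_option maxSynthPendingDepth 6
set_option linter.style.haveILetI false
set_option linter.unusedSectionVars false
set_option backward.isDefEq.respectTransparency.types false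

noncomputable section

universe u

open CategoryTheory Limits AlgebraicGeometry TopologicalSpace Opposite TensorProduct

namespace Groth.Agent.Cube73

open QC70 FF71

/-- Affine opens of a scheme separated over an affine scheme meet in affine opens. -/
theorem affine_inf {X S : Scheme.{u}} [IsAffine S] (q : X ⟶ S) [IsSeparated q] {U V : X.Opens}
    (hU : IsAffineOpen U) (hV : IsAffineOpen V) : IsAffineOpen (U ⊓ V) :=
  isAffineHom_diagonal_iff.mp (inferInstance : IsAffineHom (pullback.diagonal q)) ⊤ (isAffineOpen_top _) U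
    (by simp) V (by simp) hU hV

/-- A product of affine opens is affine. -/
theorem affine_box {X Y P S : Scheme.{u}} [IsAffine S] {qX : X ⟶ S} {qY : Y ⟶ S} {a : P ⟶ X} {b : P ⟶ Y}
    (H : IsPullback a b qX qY) {U : X.Opens} (hU : IsAffineOpen U) {V : Y.Opens} (hV : IsAffineOpen V) :
    IsAffineOpen (box a b U V) := by
  have : IsAffine _ := hU
  have : IsAffine _ := hV
  have : IsAffine _ := isAffineOpen_top S
  exact .of_isIso (Scheme.Hom.isPullback_resLE H (show V ≤ qY ⁻¹ᵁ ⊤ from le_top) (show U ≤ qX ⁻¹ᵁ ⊤ from le_top)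
    (rfl : box a b U V = _)).isoPullback.hom

theorem box_inf {X Y P : Scheme.{u}} (a : P ⟶ X) (b : P ⟶ Y) (U U' : X.Opens) (V V' : Y.Opens) :
    box a b U V ⊓ box a b U' V' = box a b (U ⊓ U') (V ⊓ V') := by
  ext t
  exact ⟨fun h => ⟨⟨h.1.1, h.2.1⟩, h.1.2, h.2.2⟩, fun h => ⟨⟨h.1.1, h.2.1⟩, h.1.2, h.2.2⟩⟩

variable {A : Type u} [CommRing A]

/-- Inverse images of the scalars of the base. -/
theorem appLE_rA {X P : Scheme.{u}} [X.Over (Spec (CommRingCat.of A))] [P.Over (Spec (CommRingCat.of A))]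
    (i : X ⟶ P) (hi : i ≫ (P ↘ Spec (CommRingCat.of A)) = X ↘ Spec (CommRingCat.of A))
    {W : P.Opens} {O : X.Opens} (e : O ≤ i ⁻¹ᵁ W) (c : A) :
    i.appLE W O e (rA A P W c) = rA A X O c := by
  have h : CommRingCat.ofHom (rA A P W) ≫ i.appLE W O e = CommRingCat.ofHom (rA A X O) := by
    rw [rA_eq_appLE, rA_eq_appLE, Category.assoc, Scheme.Hom.appLE_comp_appLE]
    simp only [hi]
  exact ConcreteCategory.congr_hom h c

/-- Inverse images preserve congruences modulo an ideal of the base. -/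
theorem appLE_mem {X P : Scheme.{u}} [X.Over (Spec (CommRingCat.of A))] [P.Over (Spec (CommRingCat.of A))]
    (i : X ⟶ P) (hi : i ≫ (P ↘ Spec (CommRingCat.of A)) = X ↘ Spec (CommRingCat.of A))
    {W : P.Opens} {O : X.Opens} (e : O ≤ i ⁻¹ᵁ W) {J : Ideal A} {f : Γ(P, W)} (hf : f ∈ J.map (rA A P W)) :
    i.appLE W O e f ∈ J.map (rA A X O) := by
  have h : (J.map (rA A P W)).map (i.appLE W O e).hom ≤ J.map (rA A X O) := by
    rw [Ideal.map_map]
    exact le_of_eq (congrArg (fun φ => J.map φ) (RingHom.ext fun c => appLE_rA i hi e c))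
  exact h (Ideal.mem_map_of_mem _ hf)

/-- Restriction preserves congruences. -/
theorem resO_mem {X : Scheme.{u}} [X.Over (Spec (CommRingCat.of A))] {V W : X.Opens} (h : W ≤ V) {J : Ideal A}
    {f : Γ(X, V)} (hf : f ∈ J.map (rA A X V)) : resO X h f ∈ J.map (rA A X W) := by
  have hh : (J.map (rA A X V)).map (X.presheaf.map (homOfLE h).op).hom ≤ J.map (rA A X W) := by
    rw [Ideal.map_map]
    exact le_of_eq (congrArg (fun φ => J.map φ) (RingHom.ext fun c => resO_rA A X h c))
  exact hh (Ideal.mem_map_of_mem _ hf)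

theorem resO_appLE {X P : Scheme.{u}} (i : X ⟶ P) {W : P.Opens} {O O' : X.Opens} (e : O ≤ i ⁻¹ᵁ W) (h : O' ≤ O)
    (f : Γ(P, W)) : resO X h (i.appLE W O e f) = i.appLE W O' (h.trans e) f :=
  ConcreteCategory.congr_hom (Scheme.Hom.appLE_map i e (homOfLE h).op) f

theorem appLE_resO {X P : Scheme.{u}} (i : X ⟶ P) {W W' : P.Opens} {O : X.Opens} (h : W' ≤ W) (e : O ≤ i ⁻¹ᵁ W')
    (f : Γ(P, W)) : i.appLE W' O e (resO P h f) = i.appLE W O (e.trans (i.preimage_mono h)) f :=
  ConcreteCategory.congr_hom (Scheme.Hom.map_appLE i e (homOfLE h).op) f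

theorem appLE_appLE {Q X P : Scheme.{u}} (j : Q ⟶ X) (i : X ⟶ P) {W : P.Opens} {O : X.Opens} {O' : Q.Opens}
    (e : O ≤ i ⁻¹ᵁ W) (e' : O' ≤ j ⁻¹ᵁ O) (f : Γ(P, W)) :
    j.appLE O O' e' (i.appLE W O e f) = (j ≫ i).appLE W O' (e'.trans (j.preimage_mono e)) f :=
  ConcreteCategory.congr_hom (Scheme.Hom.appLE_comp_appLE j i W O O' e e') f

theorem appLE_congr {X P : Scheme.{u}} {i i' : X ⟶ P} (h : i = i') {W : P.Opens} {O : X.Opens} (e : O ≤ i ⁻¹ᵁ W)
    (e' : O ≤ i' ⁻¹ᵁ W) (f : Γ(P, W)) : i.appLE W O e f = i'.appLE W O e' f := by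
  subst h; rfl

theorem resO_sub {X : Scheme.{u}} {V W : X.Opens} (h : W ≤ V) (f g : Γ(X, V)) :
    resO X h (f - g) = resO X h f - resO X h g := map_sub (X.presheaf.map (homOfLE h).op).hom f g

theorem resO_add {X : Scheme.{u}} {V W : X.Opens} (h : W ≤ V) (f g : Γ(X, V)) :
    resO X h (f + g) = resO X h f + resO X h g := map_add (X.presheaf.map (homOfLE h).op).hom f g

theorem resO_zero {X : Scheme.{u}} {V W : X.Opens} (h : W ≤ V) :
    resO X h (0 : Γ(X, V)) = 0 := map_zero (X.presheaf.map (homOfLE h).op).hom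

/-- Functions on the closed fibre, on any name for the preimage of an affine open. -/
theorem fun_fib' {X : Scheme.{u}} [X.Over (Spec (CommRingCat.of A))] (m : Ideal A) {V : X.Opens}
    (hV : IsAffineOpen V) {O : (fib X m).Opens} (hO : O = fibι X m ⁻¹ᵁ V) :
    Function.Surjective ((fibι X m).appLE V O hO.le) ∧
      ∀ f : Γ(X, V), (fibι X m).appLE V O hO.le f = 0 ↔ f ∈ m.map (rA A X V) := by
  subst hO
  rw [show (fibι X m).appLE V (fibι X m ⁻¹ᵁ V) _ = (fibι X m).app V from (Scheme.Hom.app_eq_appLE _).symm]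
  exact fun_fib m hV

section Map

variable {X P : Scheme.{u}} [X.Over (Spec (CommRingCat.of A))] [P.Over (Spec (CommRingCat.of A))]

/-- The map of closed fibres. -/
def fibMap (m : Ideal A) (i : X ⟶ P) (hi : i ≫ (P ↘ Spec (CommRingCat.of A)) = X ↘ Spec (CommRingCat.of A)) :
    fib X m ⟶ fib P m :=
  pullback.lift (fibι X m ≫ i) (pullback.snd _ _) (by rw [Category.assoc, hi]; exact pullback.condition)

theorem fibMap_ι (m : Ideal A) (i : X ⟶ P) (hi : i ≫ (P ↘ Spec (CommRingCat.of A)) = X ↘ Spec (CommRingCat.of A)) :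
    fibMap m i hi ≫ fibι P m = fibι X m ≫ i := pullback.lift_fst _ _ _

theorem fibMap_q (m : Ideal A) (i : X ⟶ P) (hi : i ≫ (P ↘ Spec (CommRingCat.of A)) = X ↘ Spec (CommRingCat.of A)) :
    fibMap m i hi ≫ pullback.snd _ _ = pullback.snd (X ↘ Spec (CommRingCat.of A)) _ := pullback.lift_snd _ _ _

end Map

section Product

variable {X Y P : Scheme.{u}} [X.Over (Spec (CommRingCat.of A))] [Y.Over (Spec (CommRingCat.of A))]
  [P.Over (Spec (CommRingCat.of A))]

/-- The closed fibre of a product is the product of the closed fibres. -/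
theorem isPullback_fib (m : Ideal A) {a : P ⟶ X} {b : P ⟶ Y}
    (H : IsPullback a b (X ↘ Spec (CommRingCat.of A)) (Y ↘ Spec (CommRingCat.of A)))
    (ha : a ≫ (X ↘ Spec (CommRingCat.of A)) = P ↘ Spec (CommRingCat.of A))
    (hb : b ≫ (Y ↘ Spec (CommRingCat.of A)) = P ↘ Spec (CommRingCat.of A)) :
    IsPullback (fibMap m a ha) (fibMap m b hb) (pullback.snd (X ↘ Spec (CommRingCat.of A)) _)
      (pullback.snd (Y ↘ Spec (CommRingCat.of A)) _) := by
  have h1 : IsPullback (fibι P m) (fibMap m a ha) a (fibι X m) := by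
    refine IsPullback.of_bot ?_ (fibMap_ι m a ha).symm
      (IsPullback.of_hasPullback (X ↘ Spec (CommRingCat.of A)) (Spec.map (CommRingCat.ofHom (algebraMap A (A ⧸ m)))))
    rw [fibMap_q, ha]
    exact IsPullback.of_hasPullback _ _
  have h2 := h1.flip.paste_vert H
  rw [pullback.condition, ← fibMap_ι m b hb] at h2
  exact IsPullback.of_bot h2 (by rw [fibMap_q, fibMap_q])
    (IsPullback.of_hasPullback (Y ↘ Spec (CommRingCat.of A)) (Spec.map (CommRingCat.ofHom (algebraMap A (A ⧸ m))))).flip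

end Product

end Groth.Agent.Cube73
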