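import Groth.Agent.Cube73.CocycleMod
import Groth.Agent.Var76.FibBC

/-!
Lifting the infinitesimal theorem of the cube to functions modulo the maximal ideal.
-/

set_option autoImplicit false
set_option maxSynthPendingDepth 6
set_option linter.style.haveILetI false
set_option linter.unusedSectionVars false
set_option backward.isDefEq.respectTransparency.types false

noncomputable section

universe u

open CategoryTheory Limits AlgebraicGeometry TopologicalSpace Opposite TensorProduct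

namespace Groth.Agent.Cube73

open QC70 FF71

variable {A : Type u} [CommRing A]

/-- The structure map of the closed fibre. -/
abbrev fibq (X : Scheme.{u}) [X.Over (Spec (CommRingCat.of A))] (m : Ideal A) :
    fib X m ⟶ Spec (CommRingCat.of (A ⧸ m)) := pullback.snd _ _

theorem app_bijective_of_appTop {X S : Scheme.{u}} [Subsingleton ↥S] (q : X ⟶ S) (h : Function.Bijective q.appTop)
    (V : S.Opens) : IsIso (q.app V) := by
  rw [ConcreteCategory.isIso_iff_bijective]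
  by_cases hV : (V : Set S).Nonempty
  · obtain rfl : V = ⊤ := by
      obtain ⟨v, hv⟩ := hV
      ext w
      exact ⟨fun _ => trivial, fun _ => (Subsingleton.elim v w) ▸ hv⟩
    exact h
  · obtain rfl : V = ⊥ := by
      ext w
      exact ⟨fun hw => (hV ⟨w, hw⟩).elim, fun hw => hw.elim⟩
    have hs : ∀ {Z : Scheme.{u}}, Subsingleton Γ(Z, ⊥) := fun {Z} =>
      ⟨fun s t => Z.sheaf.eq_of_locally_eq' (fun e : PEmpty.{1} => e.elim) ⊥ (fun e => e.elim)
        (fun x hx => hx.elim) s t fun e => e.elim⟩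
    haveI : Subsingleton Γ(X, q ⁻¹ᵁ ⊥) := by rw [Scheme.Hom.preimage_bot]; exact hs
    haveI : Subsingleton Γ(S, ⊥) := hs
    exact ⟨fun s t _ => Subsingleton.elim s t, fun t => ⟨0, Subsingleton.elim _ _⟩⟩

theorem isField_Γ {k : Type u} [CommRing k] (hk : IsField k) : IsField Γ(Spec (CommRingCat.of k), ⊤) :=
  (Scheme.ΓSpecIso (CommRingCat.of k)).commRingCatIsoToRingEquiv.toMulEquiv.isField hk

variable {X Y P : Scheme.{u}} [X.Over (Spec (CommRingCat.of A))] [Y.Over (Spec (CommRingCat.of A))]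
  [P.Over (Spec (CommRingCat.of A))]

/-- **Infinitesimal theorem of the cube**, modulo a maximal ideal of the base: a cochain of functions on
the product cover, which is a cocycle mod `m` and a coboundary mod `m` on both slices, is a coboundary
mod `m`. -/
theorem coboundary_mod (m : Ideal A) [m.IsMaximal]
    [IsSeparated (X ↘ Spec (CommRingCat.of A))] [IsSeparated (Y ↘ Spec (CommRingCat.of A))]
    [QuasiCompact (Y ↘ Spec (CommRingCat.of A))]
    {a : P ⟶ X} {b : P ⟶ Y}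
    (H : IsPullback a b (X ↘ Spec (CommRingCat.of A)) (Y ↘ Spec (CommRingCat.of A)))
    (ha : a ≫ (X ↘ Spec (CommRingCat.of A)) = P ↘ Spec (CommRingCat.of A))
    (hb : b ≫ (Y ↘ Spec (CommRingCat.of A)) = P ↘ Spec (CommRingCat.of A))
    (h0X : Function.Bijective (fibq X m).appTop) (h0Y : Function.Bijective (fibq Y m).appTop)
    (x : Spec (CommRingCat.of A) ⟶ X) (hx : x ≫ (X ↘ Spec (CommRingCat.of A)) = 𝟙 _)
    (y : Spec (CommRingCat.of A) ⟶ Y) (hy : y ≫ (Y ↘ Spec (CommRingCat.of A)) = 𝟙 _)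
    (ix : Y ⟶ P) (hix : ix ≫ a = (Y ↘ Spec (CommRingCat.of A)) ≫ x) (hix' : ix ≫ b = 𝟙 Y)
    (iy : X ⟶ P) (hiy : iy ≫ b = (X ↘ Spec (CommRingCat.of A)) ≫ y) (hiy' : iy ≫ a = 𝟙 X)
    {ι κ : Type} [Fintype κ] {U : ι → X.Opens} {V : κ → Y.Opens}
    (hU : ∀ α, IsAffineOpen (U α)) (hcov : ∀ t : X, ∃ α, t ∈ U α)
    (hV : ∀ k, IsAffineOpen (V k)) (hVcov : ∀ t : Y, ∃ k, t ∈ V k)
    (α₀ : ι) (hα₀ : x ⁻¹ᵁ U α₀ = ⊤) (k₀ : κ) (hk₀ : y ⁻¹ᵁ V k₀ = ⊤)
    (C : ∀ i j : ι × κ, Γ(P, W2 a b U V i ⊓ W2 a b U V j))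
    (hC : ∀ i j l : ι × κ,
      resO P (le_inf (inf_le_left.trans inf_le_left) (inf_le_left.trans inf_le_right)) (C i j) +
        resO P (le_inf (inf_le_left.trans inf_le_right) inf_le_right) (C j l) -
        resO P (le_inf (inf_le_left.trans inf_le_left) inf_le_right) (C i l) ∈
      m.map (rA A P ((W2 a b U V i ⊓ W2 a b U V j) ⊓ W2 a b U V l)))
    (r : ∀ k, Γ(Y, V k))
    (hr : ∀ k k', ∃ e : V k ⊓ V k' ≤ ix ⁻¹ᵁ (W2 a b U V (α₀, k) ⊓ W2 a b U V (α₀, k')),
      ix.appLE _ _ e (C (α₀, k) (α₀, k')) - (resO Y inf_le_left (r k) - resO Y inf_le_right (r k')) ∈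
        m.map (rA A Y (V k ⊓ V k')))
    (s : ∀ α, Γ(X, U α))
    (hs : ∀ α α', ∃ e : U α ⊓ U α' ≤ iy ⁻¹ᵁ (W2 a b U V (α, k₀) ⊓ W2 a b U V (α', k₀)),
      iy.appLE _ _ e (C (α, k₀) (α', k₀)) - (resO X inf_le_left (s α) - resO X inf_le_right (s α')) ∈
        m.map (rA A X (U α ⊓ U α'))) :
    ∃ h : ∀ i, Γ(P, W2 a b U V i), ∀ i j,
      C i j - (resO P inf_le_left (h i) - resO P inf_le_right (h j)) ∈
        m.map (rA A P (W2 a b U V i ⊓ W2 a b U V j)) := by
  classical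
  letI := Ideal.Quotient.field m
  let qX := X ↘ Spec (CommRingCat.of A)
  let qY := Y ↘ Spec (CommRingCat.of A)
  let a0 := fibMap m a ha
  let b0 := fibMap m b hb
  let U0 : ι → (fib X m).Opens := fun α => fibι X m ⁻¹ᵁ U α
  let V0 : κ → (fib Y m).Opens := fun k => fibι Y m ⁻¹ᵁ V k
  have hW : ∀ i, W2 a0 b0 U0 V0 i = fibι P m ⁻¹ᵁ W2 a b U V i := fun i => by
    show (fibMap m a ha ≫ fibι X m) ⁻¹ᵁ U i.1 ⊓ (fibMap m b hb ≫ fibι Y m) ⁻¹ᵁ V i.2 = _
    rw [fibMap_ι, fibMap_ι]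
    rfl
  have hW2 : ∀ i j, W2 a0 b0 U0 V0 i ⊓ W2 a0 b0 U0 V0 j = fibι P m ⁻¹ᵁ (W2 a b U V i ⊓ W2 a b U V j) :=
    fun i j => by rw [hW, hW]; rfl
  have hWaff : ∀ i j, IsAffineOpen (W2 a b U V i ⊓ W2 a b U V j) := fun i j => by
    rw [box_inf]
    exact affine_box H (affine_inf qX (hU i.1) (hU j.1)) (affine_inf qY (hV i.2) (hV j.2))
  let c : ∀ i j, Fn (fibq P m) (W2 a0 b0 U0 V0 i ⊓ W2 a0 b0 U0 V0 j) := fun i j =>
    (fibι P m).appLE _ _ (hW2 i j).le (C i j)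
  have hc : ∀ (i j l : ι × κ) (O : (fib P m).Opens) (hi : O ≤ W2 a0 b0 U0 V0 i) (hj : O ≤ W2 a0 b0 U0 V0 j)
      (hl : O ≤ W2 a0 b0 U0 V0 l),
      rs _ (le_inf hi hj) (c i j) + rs _ (le_inf hj hl) (c j l) = rs _ (le_inf hi hl) (c i l) := by
    intro i j l O hi hj hl
    have hO3 : O ≤ fibι P m ⁻¹ᵁ ((W2 a b U V i ⊓ W2 a b U V j) ⊓ W2 a b U V l) := fun t ht =>
      ⟨⟨(hW i).le (hi ht), (hW j).le (hj ht)⟩, (hW l).le (hl ht)⟩
    have haff3 : IsAffineOpen ((W2 a b U V i ⊓ W2 a b U V j) ⊓ W2 a b U V l) := by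
      rw [box_inf, box_inf]
      exact affine_box H (affine_inf qX (affine_inf qX (hU i.1) (hU j.1)) (hU l.1))
        (affine_inf qY (affine_inf qY (hV i.2) (hV j.2)) (hV l.2))
    have h0 := ((fun_fib' m haff3 rfl).2 _).2 (hC i j l)
    have h1 := congrArg (resO (fib P m) hO3) h0
    rw [map_sub, map_add, resO_sub, resO_add, resO_zero, resO_appLE, resO_appLE, resO_appLE, appLE_resO, appLE_resO,
      appLE_resO, sub_eq_zero] at h1
    show resO _ _ ((fibι P m).appLE _ _ _ (C i j)) + resO _ _ ((fibι P m).appLE _ _ _ (C j l)) =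
      resO _ _ ((fibι P m).appLE _ _ _ (C i l))
    rw [resO_appLE, resO_appLE, resO_appLE]
    exact h1
  have hK : IsField Γ(Spec (CommRingCat.of (A ⧸ m)), ⊤) := isField_Γ (Field.toIsField _)
  have H0 := isPullback_fib m H ha hb
  let γ := Spec.map (CommRingCat.ofHom (algebraMap A (A ⧸ m)))
  haveI : QuasiCompact (fibq Y m) := MorphismProperty.pullback_snd _ _ inferInstance
  haveI : IsSeparated (fibq Y m) := MorphismProperty.pullback_snd _ _ inferInstance
  haveI : Flat (fibq X m) := by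
    refine IsZariskiLocalAtSource.of_openCover (P := @Flat) (fib X m).affineCover fun i => ?_
    rw [HasRingHomProperty.iff_of_isAffine (P := @Flat)]
    letI := ((fib X m).affineCover.f i ≫ fibq X m).appTop.hom.toAlgebra
    letI := hK.toField
    exact inferInstanceAs (Module.Flat Γ(Spec (CommRingCat.of (A ⧸ m)), ⊤) _)
  have hab : ∀ α α', Function.Bijective (a0.app (U0 α ⊓ U0 α')) := fun α α' => by
    haveI := Var76.FibBC.isIso_app_baseChange (f := fibq Y m) H0.flip (app_bijective_of_appTop (fibq Y m) h0Y) (U0 α ⊓ U0 α')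
    exact ConcreteCategory.bijective_of_isIso _
  let x0 : Spec (CommRingCat.of (A ⧸ m)) ⟶ fib X m := pullback.lift (γ ≫ x) (𝟙 _)
    (by rw [Category.assoc, hx, Category.comp_id, Category.id_comp])
  let y0 : Spec (CommRingCat.of (A ⧸ m)) ⟶ fib Y m := pullback.lift (γ ≫ y) (𝟙 _)
    (by rw [Category.assoc, hy, Category.comp_id, Category.id_comp])
  have hxι : x0 ≫ fibι X m = γ ≫ x := pullback.lift_fst _ _ _
  have hyι : y0 ≫ fibι Y m = γ ≫ y := pullback.lift_fst _ _ _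
  have hxq : x0 ≫ fibq X m = 𝟙 _ := pullback.lift_snd _ _ _
  have hyq : y0 ≫ fibq Y m = 𝟙 _ := pullback.lift_snd _ _ _
  have hixS : ix ≫ (P ↘ Spec (CommRingCat.of A)) = Y ↘ Spec (CommRingCat.of A) := by
    rw [← hb, reassoc_of% hix']
  have hiyS : iy ≫ (P ↘ Spec (CommRingCat.of A)) = X ↘ Spec (CommRingCat.of A) := by
    rw [← ha, reassoc_of% hiy']
  let ix0 := fibMap m ix hixS
  let iy0 := fibMap m iy hiyS
  have hix0 : ix0 ≫ a0 = fibq Y m ≫ x0 := by
    apply pullback.hom_ext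
    · show (ix0 ≫ a0) ≫ fibι X m = (fibq Y m ≫ x0) ≫ fibι X m
      simp only [a0, ix0, Category.assoc, fibMap_ι, hxι]
      rw [reassoc_of% fibMap_ι m ix hixS, hix, ← Category.assoc, ← Category.assoc]
      congr 1
      exact pullback.condition
    · show (ix0 ≫ a0) ≫ fibq X m = (fibq Y m ≫ x0) ≫ fibq X m
      simp only [a0, ix0, Category.assoc, fibMap_q, hxq, Category.comp_id]
  have hix0' : ix0 ≫ b0 = 𝟙 _ := by
    apply pullback.hom_ext
    · show (ix0 ≫ b0) ≫ fibι Y m = 𝟙 _ ≫ fibι Y m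
      simp only [b0, ix0, Category.assoc, fibMap_ι, reassoc_of% fibMap_ι m ix hixS, hix', Category.comp_id,
        Category.id_comp]
    · show (ix0 ≫ b0) ≫ fibq Y m = 𝟙 _ ≫ fibq Y m
      simp only [b0, ix0, Category.assoc, fibMap_q, Category.id_comp]
  have hiy0 : iy0 ≫ b0 = fibq X m ≫ y0 := by
    apply pullback.hom_ext
    · show (iy0 ≫ b0) ≫ fibι Y m = (fibq X m ≫ y0) ≫ fibι Y m
      simp only [b0, iy0, Category.assoc, fibMap_ι, hyι]
      rw [reassoc_of% fibMap_ι m iy hiyS, hiy, ← Category.assoc, ← Category.assoc]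
      congr 1
      exact pullback.condition
    · show (iy0 ≫ b0) ≫ fibq Y m = (fibq X m ≫ y0) ≫ fibq Y m
      simp only [b0, iy0, Category.assoc, fibMap_q, hyq, Category.comp_id]
  have hiy0' : iy0 ≫ a0 = 𝟙 _ := by
    apply pullback.hom_ext
    · show (iy0 ≫ a0) ≫ fibι X m = 𝟙 _ ≫ fibι X m
      simp only [a0, iy0, Category.assoc, fibMap_ι, reassoc_of% fibMap_ι m iy hiyS, hiy', Category.comp_id,
        Category.id_comp]
    · show (iy0 ≫ a0) ≫ fibq X m = 𝟙 _ ≫ fibq X m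
      simp only [a0, iy0, Category.assoc, fibMap_q, Category.id_comp]
  obtain ⟨h0, hh0⟩ := exists_coboundary (qP := fibq P m) (fibMap_q m a ha) (fibMap_q m b hb) c hc H0 hK h0X
    (fun α => (hU α).preimage _) (fun α α' => (affine_inf qX (hU α) (hU α')).preimage (fibι X m))
    (fun t => hcov (fibι X m t)) (fun k => (hV k).preimage _)
    (fun k k' => (affine_inf qY (hV k) (hV k')).preimage (fibι Y m)) (fun t => hVcov (fibι Y m t)) hab
    x0 hxq ix0 hix0 hix0' α₀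
    (by show (x0 ≫ fibι X m) ⁻¹ᵁ U α₀ = ⊤; rw [hxι, Scheme.Hom.comp_preimage, hα₀]; rfl)
    (fun k => (fibι Y m).appLE (V k) (V0 k) le_rfl (r k))
    (fun k k' e => by
      obtain ⟨e', he'⟩ := hr k k'
      have h1 := ((fun_fib' m (affine_inf qY (hV k) (hV k')) (show V0 k ⊓ V0 k' = fibι Y m ⁻¹ᵁ (V k ⊓ V k') from rfl)).2 _).2 he'
      rw [map_sub, map_sub, sub_eq_zero, appLE_appLE, appLE_resO, appLE_resO] at h1
      show ix0.appLE _ _ e ((fibι P m).appLE _ _ _ (C (α₀, k) (α₀, k'))) =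
        resO _ _ ((fibι Y m).appLE _ _ _ (r k)) - resO _ _ ((fibι Y m).appLE _ _ _ (r k'))
      rw [appLE_appLE, appLE_congr (fibMap_ι m ix hixS) _ _, resO_appLE, resO_appLE]
      exact h1)
    y0 iy0 hiy0 hiy0' k₀
    (by show (y0 ≫ fibι Y m) ⁻¹ᵁ V k₀ = ⊤; rw [hyι, Scheme.Hom.comp_preimage, hk₀]; rfl)
    (fun α => (fibι X m).appLE (U α) (U0 α) le_rfl (s α))
    (fun α α' e => by
      obtain ⟨e', he'⟩ := hs α α'
      have h1 := ((fun_fib' m (affine_inf qX (hU α) (hU α')) (show U0 α ⊓ U0 α' = fibι X m ⁻¹ᵁ (U α ⊓ U α') from rfl)).2 _).2 he'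
      rw [map_sub, map_sub, sub_eq_zero, appLE_appLE, appLE_resO, appLE_resO] at h1
      show iy0.appLE _ _ e ((fibι P m).appLE _ _ _ (C (α, k₀) (α', k₀))) =
        resO _ _ ((fibι X m).appLE _ _ _ (s α)) - resO _ _ ((fibι X m).appLE _ _ _ (s α'))
      rw [appLE_appLE, appLE_congr (fibMap_ι m iy hiyS) _ _, resO_appLE, resO_appLE]
      exact h1)
  choose h hh using fun i => (fun_fib' m (affine_box H (hU i.1) (hV i.2)) (hW i)).1 (h0 i)
  refine ⟨h, fun i j => ((fun_fib' m (hWaff i j) (hW2 i j)).2 _).1 ?_⟩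
  rw [map_sub, map_sub, sub_eq_zero, appLE_resO, appLE_resO]
  refine (hh0 i j).trans ?_
  rw [← hh i, ← hh j]
  show resO _ _ ((fibι P m).appLE _ _ _ (h i)) - resO _ _ ((fibι P m).appLE _ _ _ (h j)) = _
  rw [resO_appLE, resO_appLE]
  rfl

end Groth.Agent.Cube73
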