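import Groth.Agent.Cube73.CocycleMod2

/-!
Coordinates of congruences modulo powers of an ideal, for functions and for sections of a module with a
frame on the closed fibre; functions congruent to a constant.
-/

set_option autoImplicit false
set_option maxSynthPendingDepth 6
set_option linter.style.haveILetI false
set_option linter.unusedSectionVars false
set_option backward.isDefEq.respectTransparency.types false

noncomputable section

universe u

open CategoryTheory Limits AlgebraicGeometry TopologicalSpace Opposite TensorProduct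

namespace Groth.Agent.Cube73

open QC70 FF71

variable {A : Type u} [CommRing A] {X : Scheme.{u}} [X.Over (Spec (CommRingCat.of A))] {m J : Ideal A}
  (β : SmallBasis m J)

/-- `Σ b_l c_l`. -/
def lin {W : X.Opens} (c : Fin β.r → Γ(X, W)) : Γ(X, W) := ∑ l, rA A X W (β.b l) * c l

theorem lin_mem {W : X.Opens} (c : Fin β.r → Γ(X, W)) : lin β c ∈ J.map (rA A X W) :=
  Ideal.sum_mem _ fun l _ => Ideal.mul_mem_right _ _ (Ideal.mem_map_of_mem _ (β.mem l))

theorem lin_sub {W : X.Opens} (c d : Fin β.r → Γ(X, W)) : lin β (c - d) = lin β c - lin β d := by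
  simp only [lin, Pi.sub_apply, mul_sub, Finset.sum_sub_distrib]

theorem lin_add {W : X.Opens} (c d : Fin β.r → Γ(X, W)) : lin β (c + d) = lin β c + lin β d := by
  simp only [lin, Pi.add_apply, mul_add, Finset.sum_add_distrib]

theorem res_lin {W W' : X.Opens} (h : W' ≤ W) (c : Fin β.r → Γ(X, W)) :
    resO X h (lin β c) = lin β fun l => resO X h (c l) := by
  refine (map_sum (X.presheaf.map (homOfLE h).op).hom _ _).trans (Finset.sum_congr rfl fun l _ => ?_)
  refine (map_mul (X.presheaf.map (homOfLE h).op).hom _ _).trans ?_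
  exact congrArg (· * _) (resO_rA A X h (β.b l))

theorem appLE_lin {P : Scheme.{u}} [P.Over (Spec (CommRingCat.of A))] (i : X ⟶ P)
    (hi : i ≫ (P ↘ Spec (CommRingCat.of A)) = X ↘ Spec (CommRingCat.of A)) {W : P.Opens} {O : X.Opens}
    (e : O ≤ i ⁻¹ᵁ W) (c : Fin β.r → Γ(P, W)) :
    i.appLE W O e (lin β c) = lin β fun l => i.appLE W O e (c l) := by
  refine (map_sum (i.appLE W O e).hom _ _).trans (Finset.sum_congr rfl fun l _ => ?_)
  refine (map_mul (i.appLE W O e).hom _ _).trans ?_
  exact congrArg (· * _) (appLE_rA i hi e (β.b l))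

theorem lin_mem_of_mem {W : X.Opens} (c : Fin β.r → Γ(X, W)) (hc : ∀ l, c l ∈ m.map (rA A X W)) :
    lin β c ∈ (m * J).map (rA A X W) := by
  refine Ideal.sum_mem _ fun l _ => ?_
  rw [Ideal.map_mul, mul_comm (m.map _)]
  exact Ideal.mul_mem_mul (Ideal.mem_map_of_mem _ (β.mem l)) (hc l)

include β in
theorem exists_lin {W : X.Opens} {f : Γ(X, W)} (hf : f ∈ J.map (rA A X W)) :
    ∃ c : Fin β.r → Γ(X, W), f - lin β c ∈ (m * J).map (rA A X W) := by
  letI := (rA A X W).toAlgebra
  obtain ⟨c, hc⟩ := exists_coords β ((map_ideal_iff f).1 hf)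
  refine ⟨c, (map_ideal_iff _).2 ?_⟩
  convert hc using 2
  exact Finset.sum_congr rfl fun l _ => (Algebra.smul_def _ _).symm

theorem mem_of_lin_mem [Flat (X ↘ Spec (CommRingCat.of A))] {W : X.Opens} (hW : IsAffineOpen W)
    (c : Fin β.r → Γ(X, W)) (hc : lin β c ∈ (m * J).map (rA A X W)) (l : Fin β.r) :
    c l ∈ m.map (rA A X W) := by
  letI := (rA A X W).toAlgebra
  haveI := flat_fun (A := A) hW
  refine (map_ideal_iff _).2 (coords_mem β c ?_ l)
  have h := (map_ideal_iff _).1 hc
  convert h using 1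
  exact Finset.sum_congr rfl fun l _ => Algebra.smul_def _ _

/-- A family of functions which agrees modulo `m ^ n` is congruent modulo `m ^ n` to a constant, when the
closed fibre has only constant functions. -/
theorem const_mod [IsNoetherianRing A] [m.IsMaximal] [Flat (X ↘ Spec (CommRingCat.of A))]
    [IsSeparated (X ↘ Spec (CommRingCat.of A))]
    (h0 : Function.Bijective (fibq X m).appTop) {ι : Type} {U : ι → X.Opens} (hU : ∀ α, IsAffineOpen (U α))
    (hcov : ∀ t : X, ∃ α, t ∈ U α) (n : ℕ) (u : ∀ α, Γ(X, U α))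
    (hu : ∀ α α', resO X inf_le_left (u α) - resO X inf_le_right (u α') ∈
      (m ^ n).map (rA A X (U α ⊓ U α'))) :
    ∃ c : A, ∀ α, u α - rA A X (U α) c ∈ (m ^ n).map (rA A X (U α)) := by
  induction n with
  | zero => exact ⟨0, fun α => by rw [pow_zero, Ideal.one_eq_top, Ideal.map_top]; trivial⟩
  | succ n ih =>
    obtain ⟨c, hc⟩ := ih fun α α' => Ideal.map_mono (Ideal.pow_le_pow_right (Nat.le_succ n)) (hu α α')
    obtain ⟨β⟩ := exists_smallBasis m (m ^ n)
    choose g hg using fun α => exists_lin β (hc α)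
    have haff : ∀ α α', IsAffineOpen (U α ⊓ U α') := fun α α' =>
      affine_inf (X ↘ Spec (CommRingCat.of A)) (hU α) (hU α')
    have hdiff : ∀ α α' l, resO X (inf_le_left : U α ⊓ U α' ≤ U α) (g α l) - resO X (inf_le_right : U α ⊓ U α' ≤ U α') (g α' l) ∈
        m.map (rA A X (U α ⊓ U α')) := fun α α' => by
      refine fun l => mem_of_lin_mem β (haff α α')
        (fun l => resO X inf_le_left (g α l) - resO X inf_le_right (g α' l)) ?_ l
      have h1 := resO_mem (inf_le_left : U α ⊓ U α' ≤ U α) (hg α)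
      have h2 := resO_mem (inf_le_right : U α ⊓ U α' ≤ U α') (hg α')
      rw [resO_sub, resO_sub, resO_rA, res_lin] at h1 h2
      have h3 : resO X (inf_le_left : U α ⊓ U α' ≤ U α) (u α) - resO X (inf_le_right : U α ⊓ U α' ≤ U α') (u α') ∈
          (m * m ^ n).map (rA A X (U α ⊓ U α')) := by rw [← pow_succ']; exact hu α α'
      have h4 := Submodule.sub_mem _ h3 (Submodule.sub_mem _ h1 h2)
      convert h4 using 1
      rw [show (fun l => resO X (inf_le_left : U α ⊓ U α' ≤ U α) (g α l) - resO X (inf_le_right : U α ⊓ U α' ≤ U α') (g α' l)) =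
        (fun l => resO X (inf_le_left : U α ⊓ U α' ≤ U α) (g α l)) - fun l => resO X (inf_le_right : U α ⊓ U α' ≤ U α') (g α' l) from rfl,
        lin_sub]
      ring
    have hk : ∀ l, ∃ a : A, ∀ α, g α l - rA A X (U α) a ∈ m.map (rA A X (U α)) := by
      intro l
      have hfun : ∀ α, ∀ f : Γ(X, U α), (fibι X m).appLE (U α) (fibι X m ⁻¹ᵁ U α) le_rfl f = 0 ↔
          f ∈ m.map (rA A X (U α)) := fun α => (fun_fib' m (hU α) rfl).2
      obtain ⟨F, hF⟩ := fn_glue (fibq X m) (fun α => fibι X m ⁻¹ᵁ U α) (fun _ => le_top) (fun t _ => hcov (fibι X m t))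
        (fun α => (fibι X m).appLE (U α) (fibι X m ⁻¹ᵁ U α) le_rfl (g α l)) fun α α' => by
          have h1 := ((fun_fib' m (haff α α') (show fibι X m ⁻¹ᵁ U α ⊓ fibι X m ⁻¹ᵁ U α' = _ from rfl)).2 _).2
            (hdiff α α' l)
          rw [map_sub, sub_eq_zero, appLE_resO, appLE_resO] at h1
          show resO _ _ _ = resO _ _ _
          rw [resO_appLE, resO_appLE]
          exact h1
      obtain ⟨k, hk⟩ := h0.2 (show Γ(fib X m, ⊤) from F)
      obtain ⟨k', rfl⟩ := (ConcreteCategory.bijective_of_isIso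
        (Scheme.ΓSpecIso (CommRingCat.of (A ⧸ m))).inv).2 k
      obtain ⟨a, rfl⟩ := Ideal.Quotient.mk_surjective k'
      refine ⟨a, fun α => (hfun α _).1 ?_⟩
      rw [map_sub, sub_eq_zero]
      refine (hF α).symm.trans ?_
      show resO _ _ (show Γ(fib X m, ⊤) from F) = _
      rw [← hk]
      have e1 : CommRingCat.ofHom (algebraMap A (A ⧸ m)) ≫ (Scheme.ΓSpecIso (CommRingCat.of (A ⧸ m))).inv =
          (Scheme.ΓSpecIso (CommRingCat.of A)).inv ≫ (Spec.map (CommRingCat.ofHom (algebraMap A (A ⧸ m)))).appTop :=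
        Scheme.ΓSpecIso_inv_naturality _
      rw [show (Scheme.ΓSpecIso (CommRingCat.of (A ⧸ m))).inv (Ideal.Quotient.mk m a) =
        (Spec.map (CommRingCat.ofHom (algebraMap A (A ⧸ m)))).appTop
          ((Scheme.ΓSpecIso (CommRingCat.of A)).inv a) from ConcreteCategory.congr_hom e1 a]
      have e2 : (Spec.map (CommRingCat.ofHom (algebraMap A (A ⧸ m)))).appTop ≫ (fibq X m).appTop =
          (X ↘ Spec (CommRingCat.of A)).appTop ≫ (fibι X m).appTop := by
        rw [← Scheme.Hom.comp_appTop, ← Scheme.Hom.comp_appTop]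
        exact congrArg Scheme.Hom.appTop pullback.condition.symm
      refine (congrArg _ (ConcreteCategory.congr_hom e2 _)).trans ?_
      show resO _ _ ((fibι X m).app ⊤ _) = _
      rw [Scheme.Hom.app_eq_appLE, resO_appLE]
      exact ((appLE_resO (fibι X m) le_top le_rfl _).symm).trans rfl
    choose a ha using hk
    refine ⟨c + ∑ l, a l * β.b l, fun α => ?_⟩
    rw [pow_succ']
    have h1 := hg α
    have h2 : lin β (fun l => g α l - rA A X (U α) (a l)) ∈ (m * m ^ n).map (rA A X (U α)) :=
      lin_mem_of_mem β _ fun l => ha l α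
    rw [show (fun l => g α l - rA A X (U α) (a l)) = g α - fun l => rA A X (U α) (a l) from rfl, lin_sub] at h2
    convert Submodule.add_mem _ h1 h2 using 1
    rw [map_add, map_sum]
    simp only [lin, map_mul, mul_comm (rA A X (U α) (a _))]
    ring

end Groth.Agent.Cube73
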