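import Groth.Agent.Cube73.Glue
import Groth.Agent.Amp73.PullTensor
import Groth.Agent.Var76.FibBC

/-!
A cube datum: two schemes proper flat of finite presentation over a base with sections, and an invertible
module on their product trivial on both slices. Base change of cube data.
-/

set_option autoImplicit false
set_option linter.style.haveILetI false
set_option backward.isDefEq.respectTransparency.types false

noncomputable section

universe u

open CategoryTheory Limits AlgebraicGeometry TopologicalSpace Opposite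
open Groth.Agent.Var76

namespace Groth.Agent.Cube73

/-- Two proper flat schemes of finite presentation over `Z` with sections and an invertible module on
their product, trivial on both slices. -/
structure Datum (Z : Scheme.{u}) where
  X : Scheme.{u}
  Y : Scheme.{u}
  P : Scheme.{u}
  qX : X ⟶ Z
  qY : Y ⟶ Z
  properX : IsProper qX
  flatX : Flat qX
  lfpX : LocallyOfFinitePresentation qX
  properY : IsProper qY
  flatY : Flat qY
  lfpY : LocallyOfFinitePresentation qY
  a : P ⟶ X
  b : P ⟶ Y
  H : IsPullback a b qX qY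
  x : Z ⟶ X
  hx : x ≫ qX = 𝟙 Z
  y : Z ⟶ Y
  hy : y ≫ qY = 𝟙 Z
  ix : Y ⟶ P
  hix : ix ≫ a = qY ≫ x
  hix' : ix ≫ b = 𝟙 Y
  iy : X ⟶ P
  hiy : iy ≫ b = qX ≫ y
  hiy' : iy ≫ a = 𝟙 X
  L : P.Modules
  hL : PicF.IsInvertible L
  trivY : Nonempty ((Scheme.Modules.pullback ix).obj L ≅ Coh.structureModule Y)
  trivX : Nonempty ((Scheme.Modules.pullback iy).obj L ≅ Coh.structureModule X)

namespace Datum

variable {Z : Scheme.{u}} (D : Datum Z)

attribute [instance] Datum.properX Datum.flatX Datum.lfpX Datum.properY Datum.flatY Datum.lfpY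

/-- The structure morphism of the product. -/
def q : D.P ⟶ Z := D.a ≫ D.qX

theorem q_eq : D.b ≫ D.qY = D.q := D.H.w.symm

instance : IsProper D.a := MorphismProperty.of_isPullback (P := @IsProper) D.H.flip D.properY
instance : Flat D.a := MorphismProperty.of_isPullback (P := @Flat) D.H.flip D.flatY
instance : LocallyOfFinitePresentation D.a :=
  MorphismProperty.of_isPullback (P := @LocallyOfFinitePresentation) D.H.flip D.lfpY
instance : IsProper D.q := inferInstanceAs (IsProper (D.a ≫ D.qX))
instance : Flat D.q := inferInstanceAs (Flat (D.a ≫ D.qX))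
instance : LocallyOfFinitePresentation D.q := inferInstanceAs (LocallyOfFinitePresentation (D.a ≫ D.qX))

/-- The section of the product. -/
def sec : Z ⟶ D.P := D.y ≫ D.ix

theorem sec_q : D.sec ≫ D.q = 𝟙 Z := by
  rw [sec, q, Category.assoc, reassoc_of% D.hix, D.hx, Category.comp_id, D.hy]

theorem sec_triv : Nonempty ((Scheme.Modules.pullback D.sec).obj D.L ≅ Coh.structureModule Z) :=
  ⟨((Scheme.Modules.pullbackComp D.y D.ix).app D.L).symm ≪≫
    (Scheme.Modules.pullback D.y).mapIso D.trivY.some ≪≫ PicLoc.pullbackStructureIso D.y⟩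

/-- The module is trivial on the fibre over a point. -/
def TrivAt (z : Z) : Prop :=
  Nonempty ((Scheme.Modules.pullback (D.q.fiberι z)).obj D.L ≅ Coh.structureModule (D.q.fiber z))

/-- Both factors have only constant functions on the fibre over a point. -/
def H0At (z : Z) : Prop :=
  Function.Bijective (pullback.snd D.qX (Z.fromSpecResidueField z)).appTop ∧
    Function.Bijective (pullback.snd D.qY (Z.fromSpecResidueField z)).appTop

section BaseChange

variable {T : Scheme.{u}} (g : T ⟶ Z)

/-- The map of pullbacks induced by a morphism over `Z`. -/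
def bcHom {V W : Scheme.{u}} {v : V ⟶ Z} {w : W ⟶ Z} (i : V ⟶ W) (hi : i ≫ w = v) : pullback v g ⟶ pullback w g :=
  pullback.lift (pullback.fst v g ≫ i) (pullback.snd v g) (by rw [Category.assoc, hi]; exact pullback.condition)

theorem bcHom_fst {V W : Scheme.{u}} {v : V ⟶ Z} {w : W ⟶ Z} (i : V ⟶ W) (hi : i ≫ w = v) :
    bcHom g i hi ≫ pullback.fst w g = pullback.fst v g ≫ i := pullback.lift_fst _ _ _

theorem bcHom_snd {V W : Scheme.{u}} {v : V ⟶ Z} {w : W ⟶ Z} (i : V ⟶ W) (hi : i ≫ w = v) :
    bcHom g i hi ≫ pullback.snd w g = pullback.snd v g := pullback.lift_snd _ _ _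

/-- The section after base change. -/
def bcSec {V : Scheme.{u}} {v : V ⟶ Z} (s : Z ⟶ V) (hs : s ≫ v = 𝟙 Z) : T ⟶ pullback v g :=
  pullback.lift (g ≫ s) (𝟙 T) (by rw [Category.assoc, hs, Category.comp_id, Category.id_comp])

theorem triv_comp {V V' W W' : Scheme.{u}} {i : V ⟶ W} {i' : V' ⟶ W'} {gV : V' ⟶ V} {gW : W' ⟶ W}
    (h : i' ≫ gW = gV ≫ i) {M : W.Modules} (e : (Scheme.Modules.pullback i).obj M ≅ Coh.structureModule V) :
    Nonempty ((Scheme.Modules.pullback i').obj ((Scheme.Modules.pullback gW).obj M) ≅ Coh.structureModule V') :=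
  ⟨(Scheme.Modules.pullbackComp i' gW).app M ≪≫ (Scheme.Modules.pullbackCongr h).app M ≪≫
    ((Scheme.Modules.pullbackComp gV i).app M).symm ≪≫ (Scheme.Modules.pullback gV).mapIso e ≪≫
      PicLoc.pullbackStructureIso gV⟩

theorem isPullback_bc :
    IsPullback (bcHom g D.a (show D.a ≫ D.qX = D.q from rfl)) (bcHom g D.b D.q_eq)
      (pullback.snd D.qX g) (pullback.snd D.qY g) := by
  let aT := bcHom g D.a (show D.a ≫ D.qX = D.q from rfl)
  have h1 : IsPullback (pullback.fst D.q g) aT D.a (pullback.fst D.qX g) := by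
    refine IsPullback.of_bot ?_ (bcHom_fst g _ _).symm (IsPullback.of_hasPullback D.qX g)
    rw [bcHom_snd]
    exact IsPullback.of_hasPullback _ _
  have h2 := h1.flip.paste_vert D.H
  rw [pullback.condition, ← bcHom_fst g D.b D.q_eq] at h2
  exact IsPullback.of_bot h2 (by rw [bcHom_snd, bcHom_snd]) (IsPullback.of_hasPullback D.qY g).flip

theorem ix_q : D.ix ≫ D.q = D.qY := by rw [← D.q_eq, ← Category.assoc, D.hix', Category.id_comp]

theorem iy_q : D.iy ≫ D.q = D.qX := by rw [q, ← Category.assoc, D.hiy', Category.id_comp]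

/-- Base change of a cube datum. -/
def bc : Datum T where
  X := pullback D.qX g
  Y := pullback D.qY g
  P := pullback D.q g
  qX := pullback.snd D.qX g
  qY := pullback.snd D.qY g
  properX := inferInstance
  flatX := MorphismProperty.pullback_snd _ _ D.flatX
  lfpX := MorphismProperty.pullback_snd _ _ D.lfpX
  properY := inferInstance
  flatY := MorphismProperty.pullback_snd _ _ D.flatY
  lfpY := MorphismProperty.pullback_snd _ _ D.lfpY
  a := bcHom g D.a rfl
  b := bcHom g D.b D.q_eq
  H := D.isPullback_bc g
  x := bcSec g D.x D.hx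
  hx := pullback.lift_snd _ _ _
  y := bcSec g D.y D.hy
  hy := pullback.lift_snd _ _ _
  ix := bcHom g D.ix D.ix_q
  hix := by
    apply pullback.hom_ext
    · simp only [bcSec, Category.assoc, bcHom_fst, pullback.lift_fst]
      rw [reassoc_of% bcHom_fst g D.ix D.ix_q, D.hix, pullback.condition_assoc]
    · simp only [bcSec, Category.assoc, bcHom_snd, pullback.lift_snd, Category.comp_id]
  hix' := by
    apply pullback.hom_ext
    · rw [Category.assoc, bcHom_fst, reassoc_of% bcHom_fst g D.ix D.ix_q, D.hix', Category.comp_id, Category.id_comp]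
    · rw [Category.assoc, bcHom_snd, bcHom_snd, Category.id_comp]
  iy := bcHom g D.iy D.iy_q
  hiy := by
    apply pullback.hom_ext
    · simp only [bcSec, Category.assoc, bcHom_fst, pullback.lift_fst]
      rw [reassoc_of% bcHom_fst g D.iy D.iy_q, D.hiy, pullback.condition_assoc]
    · simp only [bcSec, Category.assoc, bcHom_snd, pullback.lift_snd, Category.comp_id]
  hiy' := by
    apply pullback.hom_ext
    · rw [Category.assoc, bcHom_fst, reassoc_of% bcHom_fst g D.iy D.iy_q, D.hiy', Category.comp_id, Category.id_comp]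
    · rw [Category.assoc, bcHom_snd, bcHom_snd, Category.id_comp]
  L := (Scheme.Modules.pullback (pullback.fst D.q g)).obj D.L
  hL := Amp73.isInvertible_pullback _ D.hL
  trivY := triv_comp (bcHom_fst g D.ix D.ix_q) D.trivY.some
  trivX := triv_comp (bcHom_fst g D.iy D.iy_q) D.trivX.some

theorem bc_q : (D.bc g).q = pullback.snd D.q g := bcHom_snd g D.a rfl

end BaseChange

end Datum

end Groth.Agent.Cube73
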