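import Groth.Agent.Cube73.LocalOpen
import Groth.Agent.Rig93.Fibre
import Groth.Agent.VarGal.GeomReg

/-!
Openness of the trivial locus of a cube datum over an affine Noetherian base.
-/

set_option autoImplicit false
set_option maxSynthPendingDepth 6
set_option linter.style.haveILetI false
set_option linter.unusedSectionVars false
set_option backward.isDefEq.respectTransparency.types false

noncomputable section

universe u

open CategoryTheory Limits AlgebraicGeometry TopologicalSpace Opposite TensorProduct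
open Groth.Agent.Var76

namespace Groth.Agent.Cube73

namespace Datum

variable {Z : Scheme.{u}} (D : Datum Z)

theorem h0_q {K : Scheme.{u}} [Subsingleton ↥K] [IsAffine K] (_hK : IsField Γ(K, ⊤)) (γ : K ⟶ Z)
    (hX : Function.Bijective (pullback.snd D.qX γ).appTop) (hY : Function.Bijective (pullback.snd D.qY γ).appTop) :
    Function.Bijective (pullback.snd D.q γ).appTop := by
  have : Flat (pullback.snd D.qX γ) := MorphismProperty.pullback_snd _ _ D.flatX
  have hb := Var76.FibBC.isIso_app_baseChange (f := pullback.snd D.qY γ) (D.isPullback_bc γ).flip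
    (fun W => by
      rw [ConcreteCategory.isIso_iff_bijective]
      by_cases hW : (W : Set K).Nonempty
      · obtain rfl : W = ⊤ := by
          obtain ⟨v, hv⟩ := hW
          ext w
          exact ⟨fun _ => trivial, fun _ => (Subsingleton.elim v w) ▸ hv⟩
        exact hY
      · obtain rfl : W = ⊥ := by
          ext w
          exact ⟨fun hw => (hW ⟨w, hw⟩).elim, fun hw => hw.elim⟩
        have hs : ∀ {T : Scheme.{u}}, Subsingleton Γ(T, ⊥) := fun {T} =>
          ⟨fun s t => T.sheaf.eq_of_locally_eq' (fun e : PEmpty.{1} => e.elim) ⊥ (fun e => e.elim)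
            (fun x hx => hx.elim) s t fun e => e.elim⟩
        haveI : Subsingleton Γ(pullback D.qY γ, pullback.snd D.qY γ ⁻¹ᵁ ⊥) := by
          rw [Scheme.Hom.preimage_bot]; exact hs
        haveI : Subsingleton Γ(K, ⊥) := hs
        exact ⟨fun s t _ => Subsingleton.elim s t, fun t => ⟨0, Subsingleton.elim _ _⟩⟩) ⊤
  haveI : IsIso (bcHom γ D.a (show D.a ≫ D.qX = D.q from rfl)).appTop := hb
  have h2 : Function.Bijective (bcHom γ D.a (show D.a ≫ D.qX = D.q from rfl)).appTop :=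
    ConcreteCategory.bijective_of_isIso _
  have e : (pullback.snd D.q γ).appTop = (pullback.snd D.qX γ).appTop ≫ (bcHom γ D.a (show D.a ≫ D.qX = D.q from rfl)).appTop := by
    rw [← Scheme.Hom.comp_appTop, bcHom_snd]
  rw [e]
  exact h2.comp hX

/-- Trivialisations spread out from a point. -/
theorem exists_frame_nhd [IsAffine Z] [IsLocallyNoetherian Z] (z : Z) (h0 : D.H0At z) (ht : D.TrivAt z) :
    ∃ U : Z.Opens, z ∈ U ∧ ∃ e : Γ(D.L, D.q ⁻¹ᵁ U), LineBundle.IsFrame D.L (D.q ⁻¹ᵁ U) e := by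
  let A : Type u := Z.presheaf.stalk z
  let g : Spec (CommRingCat.of A) ⟶ Z := Z.fromSpecStalk z
  let Dz := D.bc g
  let k := A ⧸ IsLocalRing.maximalIdeal A
  let γ : Spec (CommRingCat.of k) ⟶ Spec (CommRingCat.of A) := Spec.map (CommRingCat.ofHom (algebraMap A k))
  have hγ : γ ≫ g = Z.fromSpecResidueField z := rfl
  have hiso : ∀ {V : Scheme.{u}} (v : V ⟶ Z),
      ∃ e : pullback (pullback.snd v g) γ ≅ pullback v (Z.fromSpecResidueField z),
        e.hom ≫ pullback.snd _ _ = pullback.snd _ _ ∧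
          e.hom ≫ pullback.fst _ _ = pullback.fst _ _ ≫ pullback.fst v g := fun v =>
    ⟨pullbackLeftPullbackSndIso v g γ, pullbackLeftPullbackSndIso_hom_snd _ _ _,
      pullbackLeftPullbackSndIso_hom_fst _ _ _⟩
  obtain ⟨eX, heX, -⟩ := hiso D.qX
  obtain ⟨eY, heY, -⟩ := hiso D.qY
  have h0X : Function.Bijective (pullback.snd Dz.qX γ).appTop :=
    (Rig93.bijective_appTop_of_iso eX _ _ heX).2 h0.1
  have h0Y : Function.Bijective (pullback.snd Dz.qY γ).appTop :=
    (Rig93.bijective_appTop_of_iso eY _ _ heY).2 h0.2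
  let g' : Dz.P ⟶ D.P := pullback.fst D.q g
  let j : pullback Dz.q γ ⟶ Dz.P := pullback.fst Dz.q γ
  have key : ∀ (q' : pullback D.q g ⟶ Spec (CommRingCat.of A)) (_ : q' = pullback.snd D.q g),
      ∃ eQ : pullback q' γ ≅ pullback D.q (Z.fromSpecResidueField z),
        pullback.fst q' γ ≫ pullback.fst D.q g = eQ.hom ≫ pullback.fst D.q (Z.fromSpecResidueField z) := by
    rintro _ rfl
    obtain ⟨e, -, he⟩ := hiso D.q
    exact ⟨e, he.symm⟩
  obtain ⟨eQ, heQ'⟩ := key Dz.q (D.bc_q g)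
  have heQ : j ≫ g' = eQ.hom ≫ D.q.fiberι z := heQ'
  obtain ⟨e₀⟩ := triv_comp heQ ht.some
  obtain ⟨F, hF⟩ := exists_frame_of_iso e₀
  obtain ⟨T, hT, hTF⟩ := exists_frame_local Dz h0X h0Y F hF
  haveI : Flat g := VarGal.flat_fromSpecStalk z
  haveI : Nontrivial k := Ideal.Quotient.nontrivial_iff.mpr (IsLocalRing.maximalIdeal.isMaximal A).ne_top
  haveI : Subsingleton ↥(Spec (CommRingCat.of k)) :=
    letI := Ideal.Quotient.field (IsLocalRing.maximalIdeal A)
    inferInstanceAs (Subsingleton (PrimeSpectrum k))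
  have hkf : IsField Γ(Spec (CommRingCat.of k), ⊤) :=
    letI := Ideal.Quotient.field (IsLocalRing.maximalIdeal A)
    isField_Γ (Field.toIsField k)
  have hq0 := Dz.h0_q hkf γ h0X h0Y
  have hPf : IsField Γ(pullback Dz.q γ, ⊤) :=
    (RingEquiv.ofBijective _ hq0).toMulEquiv.symm.isField hkf
  haveI : CompactSpace D.P := QuasiCompact.compactSpace_of_compactSpace D.q
  haveI : QuasiSeparatedSpace D.P := quasiSeparatedSpace_of_quasiSeparated D.q
  haveI : D.L.IsQuasicoherent := Mero90.isQCoh_of_isInvertible D.hL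
  have hsq : IsPullback g' Dz.q D.q g := by
    rw [D.bc_q g]
    exact IsPullback.of_hasPullback D.q g
  obtain ⟨w, hw⟩ := Desc59.FlatH0.exists_eq_μ D.q Dz.q g' D.L hsq T
  have hex : ∃ s : Γ(D.L, ⊤), Amp73.pullS j Dz.L ⊤ (Amp73.pullS g' D.L ⊤ s) ≠ 0 := by
    by_contra hne
    simp only [not_exists, not_not] at hne
    have h0 : ∀ w, Amp73.pullS j Dz.L ⊤ (Desc59.FlatH0.μ D.q g Dz.q g' D.L hsq ⊤ w) = 0 := by
      letI := Desc59.FlatH0.baseModule D.q D.L ⊤
      letI := g.appTop.hom.toAlgebra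
      intro w
      induction w using TensorProduct.induction_on with
      | zero =>
        rw [map_zero]
        exact map_zero (((Scheme.Modules.pullbackPushforwardAdjunction j).unit.app Dz.L).app ⊤).hom
      | tmul a x =>
        refine (Amp73.pullS_smul j Dz.L _ (Dz.q.appLE ⊤ (g' ⁻¹ᵁ ⊤) le_top a) (Amp73.pullS g' D.L ⊤ x)).trans ?_
        have hx : Amp73.pullS j Dz.L (g' ⁻¹ᵁ ⊤) (Amp73.pullS g' D.L ⊤ x) = 0 := hne x
        rw [hx]
        exact smul_zero _
      | add u v hu hv =>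
        rw [map_add]
        exact (map_add (((Scheme.Modules.pullbackPushforwardAdjunction j).unit.app Dz.L).app ⊤).hom _ _).trans
          ((congrArg₂ (· + ·) hu hv).trans (add_zero _))
    have h10 : F = 0 := hTF.symm.trans ((congrArg (Amp73.pullS j Dz.L ⊤) hw.symm).trans (h0 w))
    obtain ⟨c, hc⟩ : ∃ c : Γ(pullback Dz.q γ, ⊤), c • F ≠ 0 := by
      refine ⟨1, fun h => ?_⟩
      haveI : Nontrivial Γ(pullback Dz.q γ, ⊤) := ⟨hPf.exists_pair_ne⟩
      refine one_ne_zero (α := Γ(pullback Dz.q γ, ⊤)) ((hF ⊤ le_rfl).1 ?_)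
      show (1 : Γ(pullback Dz.q γ, ⊤)) • LineBundle.res _ le_rfl F = (0 : Γ(pullback Dz.q γ, ⊤)) • LineBundle.res _ le_rfl F
      rw [Amp73.res_self, h, zero_smul]
    exact hc (by rw [h10, smul_zero])
  obtain ⟨s, hs⟩ := hex
  have hsF : LineBundle.IsFrame _ ⊤ (Amp73.pullS j Dz.L ⊤ (Amp73.pullS g' D.L ⊤ s)) := by
    obtain ⟨c, hc⟩ := (hF ⊤ le_rfl).2 (Amp73.pullS j Dz.L ⊤ (Amp73.pullS g' D.L ⊤ s))
    have hc' : c • F = Amp73.pullS j Dz.L ⊤ (Amp73.pullS g' D.L ⊤ s) :=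
      (congrArg (c • ·) (Amp73.res_self _ F).symm).trans hc
    rw [← hc']
    refine (Amp73.isFrame_smul_iff hF c).2 ?_
    have hc0 : c ≠ 0 := fun h => hs (by rw [← hc', h]; exact zero_smul _ F)
    obtain ⟨d, hd⟩ := hPf.mul_inv_cancel hc0
    exact IsUnit.of_mul_eq_one d hd
  let φ := EGA73.unitHom D.L s
  let Zc : Set D.P := (CohB1.genLocus D.L φ : Set D.P)ᶜ
  have hclosed : IsClosed (D.q '' Zc) := D.q.isClosedMap _ (CohB1.genLocus D.L φ).isOpen.isClosed_compl
  refine ⟨⟨(D.q '' Zc)ᶜ, hclosed.isOpen_compl⟩, ?_, LineBundle.res D.L le_top s, ?_⟩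
  · rintro ⟨p, hp, hpz⟩
    obtain ⟨p₀, hp₀⟩ : ∃ p₀ : ↥(D.q.fiber z), D.q.fiberι z p₀ = p := by
      have h : p ∈ Set.range (D.q.fiberι z) := (D.q.range_fiberι z).ge hpz
      exact h
    let p₁ : ↥(pullback Dz.q γ) := eQ.inv p₀
    have hp₁ : g' (j p₁) = p := by
      show (j ≫ g') p₁ = p
      rw [heQ]
      show (eQ.inv ≫ eQ.hom ≫ D.q.fiberι z) p₀ = p
      rw [Iso.inv_hom_id_assoc]
      exact hp₀
    apply hp
    rw [← hp₁]
    have hv : Var76.ZeroScheme.val _ (Amp73.pullHom j (Amp73.pullHom g' φ)) ⊤ =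
        Amp73.pullS j Dz.L ⊤ (Amp73.pullS g' D.L ⊤ s) :=
      (Amp73.val_pullHom j (Amp73.pullHom g' φ) ⊤).trans
        (congrArg (Amp73.pullS j Dz.L ⊤) ((Amp73.val_pullHom g' φ ⊤).trans (congrArg (Amp73.pullS g' D.L ⊤) (AbVar93.val_eq D.L s))))
    have h1 : p₁ ∈ CohB1.genLocus _ (Amp73.pullHom j (Amp73.pullHom g' φ)) :=
      (Amp73.isFrame_iff_le_genLocus _ ⊤).1 (by rw [hv]; exact hsF) trivial
    rw [Amp73.genLocus_pullHom j (Amp73.isInvertible_pullback g' D.hL) (Amp73.pullHom g' φ)] at h1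
    have h1' : j p₁ ∈ CohB1.genLocus _ (Amp73.pullHom g' φ) := h1
    rw [Amp73.genLocus_pullHom g' D.hL φ] at h1'
    exact h1'
  · have h := (Amp73.isFrame_iff_le_genLocus φ (D.q ⁻¹ᵁ ⟨(D.q '' Zc)ᶜ, hclosed.isOpen_compl⟩)).2
      (fun p hp => by by_contra h; exact hp ⟨p, h, rfl⟩)
    rw [← Var76.ZeroScheme.res_val D.L φ (le_top : D.q ⁻¹ᵁ ⟨(D.q '' Zc)ᶜ, hclosed.isOpen_compl⟩ ≤ ⊤), AbVar93.val_eq] at h
    exact h

end Datum

end Groth.Agent.Cube73
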