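import Groth.Agent.Cube73.Datum
import Groth.Agent.Rig93.Approx
import Groth.Agent.ParaF26.DescPushCor
import Groth.Agent.LimTop61.Reduced
import Groth.Agent.Cube73.NoethOpen

/-!
Fibres of a base change: triviality and integrality descend along extensions of residue fields.
-/

set_option autoImplicit false
set_option maxSynthPendingDepth 6
set_option linter.style.haveILetI false
set_option linter.unusedSectionVars false
set_option backward.isDefEq.respectTransparency.types false

noncomputable section

universe u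

open CategoryTheory Limits AlgebraicGeometry TopologicalSpace Opposite
open Groth.Agent.Var76

namespace Groth.Agent.Cube73

/-- Fibres of a base change are base changes of fibres. -/
theorem exists_fiberMap {P Z T : Scheme.{u}} (q : P ⟶ Z) (g : T ⟶ Z) {P' : Scheme.{u}} {g' : P' ⟶ P} {q' : P' ⟶ T}
    (H : IsPullback g' q' q g) (t : T) :
    ∃ φ : q'.fiber t ⟶ q.fiber (g t), φ ≫ q.fiberι (g t) = q'.fiberι t ≫ g' ∧
      IsPullback φ (q'.fiberToSpecResidueField t) (q.fiberToSpecResidueField (g t))
        (Spec.map (g.residueFieldMap t)) := by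
  have h : IsPullback (q'.fiberι t ≫ g') (q'.fiberToSpecResidueField t) q
      (Spec.map (g.residueFieldMap t) ≫ Z.fromSpecResidueField (g t)) := by
    rw [g.SpecMap_residueFieldMap_fromSpecResidueField]
    exact IsPullback.paste_horiz (IsPullback.of_hasPullback _ _) H
  have hb : IsPullback (q.fiberι (g t)) (q.fiberToSpecResidueField (g t)) q (Z.fromSpecResidueField (g t)) :=
    IsPullback.of_hasPullback _ _
  refine ⟨hb.lift (q'.fiberι t ≫ g') (q'.fiberToSpecResidueField t ≫ Spec.map (g.residueFieldMap t))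
      (by rw [h.w, Category.assoc]), hb.lift_fst _ _ _, ?_⟩
  exact IsPullback.of_right (by rw [hb.lift_fst]; exact h) (hb.lift_snd _ _ _) hb

theorem surjective_resMap {T Z : Scheme.{u}} (g : T ⟶ Z) (t : T) : Surjective (Spec.map (g.residueFieldMap t)) := by
  refine ⟨fun y => ⟨IsLocalRing.closedPoint (T.residueField t), ?_⟩⟩
  exact Subsingleton.elim (α := PrimeSpectrum (Z.residueField (g t))) _ _

theorem flat_resMap {T Z : Scheme.{u}} (g : T ⟶ Z) (t : T) : Flat (Spec.map (g.residueFieldMap t)) := by
  rw [HasRingHomProperty.Spec_iff (P := @Flat)]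
  letI := (g.residueFieldMap t).hom.toAlgebra
  exact (Module.Flat.of_free : Module.Flat (Z.residueField (g t)) (T.residueField t))

theorem iso_of_invertible_subsingleton {K : Scheme.{u}} [Subsingleton ↥K] [Nonempty ↥K] {M : K.Modules}
    (hM : PicF.IsInvertible M) : Nonempty (M ≅ Coh.structureModule K) := by
  obtain ⟨x⟩ := (inferInstance : Nonempty ↥K)
  obtain ⟨U, hx, e, he⟩ := Mero90.exists_frame' hM x
  obtain rfl : U = ⊤ := by
    ext w
    exact ⟨fun _ => trivial, fun _ => (Subsingleton.elim x w) ▸ hx⟩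
  exact iso_of_frame he

namespace Datum

variable {Z : Scheme.{u}} (D : Datum Z)

theorem h0_fiber {z : Z} (h0 : D.H0At z) : Function.Bijective (pullback.snd D.q (Z.fromSpecResidueField z)).appTop :=
  haveI : Subsingleton ↥(Spec (Z.residueField z)) := inferInstanceAs (Subsingleton (PrimeSpectrum (Z.residueField z)))
  D.h0_q (isField_Γ (Field.toIsField (Z.residueField z))) _ h0.1 h0.2

end Datum

/-- A cube datum which is the base change of another one. -/
structure BC {Z T : Scheme.{u}} (D : Datum Z) (D' : Datum T) (g : T ⟶ Z) where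
  eX : D'.X ⟶ D.X
  eY : D'.Y ⟶ D.Y
  eP : D'.P ⟶ D.P
  hX : IsPullback eX D'.qX D.qX g
  hY : IsPullback eY D'.qY D.qY g
  hP : IsPullback eP D'.q D.q g
  eL : (Scheme.Modules.pullback eP).obj D.L ≅ D'.L

/-- The base change of a cube datum. -/
def Datum.bcBC {Z T : Scheme.{u}} (D : Datum Z) (g : T ⟶ Z) : BC D (D.bc g) g where
  eX := pullback.fst D.qX g
  eY := pullback.fst D.qY g
  eP := pullback.fst D.q g
  hX := IsPullback.of_hasPullback _ _
  hY := IsPullback.of_hasPullback _ _
  hP := by rw [D.bc_q g]; exact IsPullback.of_hasPullback D.q g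
  eL := Iso.refl _

namespace BC

variable {Z T : Scheme.{u}} {D : Datum Z} {D' : Datum T} {g : T ⟶ Z} (B : BC D D' g) (t : T)

include B in
theorem h0At_iff : D'.H0At t ↔ D.H0At (g t) :=
  and_congr (Rig93.h0_iff_of_isPullback B.hX t) (Rig93.h0_iff_of_isPullback B.hY t)

include B in
theorem trivAt (h : D.TrivAt (g t)) : D'.TrivAt t := by
  obtain ⟨φ, hφ, -⟩ := exists_fiberMap D.q g B.hP t
  obtain ⟨e⟩ := Datum.triv_comp hφ.symm h.some
  exact ⟨((Scheme.Modules.pullback (D'.q.fiberι t)).mapIso B.eL).symm ≪≫ e⟩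

include B in
theorem trivAt_of (h0 : D.H0At (g t)) (h : D'.TrivAt t) : D.TrivAt (g t) := by
  obtain ⟨φ, hφ, hsq⟩ := exists_fiberMap D.q g B.hP t
  haveI := surjective_resMap g t
  haveI := flat_resMap g t
  haveI : Subsingleton ↥(Spec (Z.residueField (g t))) :=
    inferInstanceAs (Subsingleton (PrimeSpectrum (Z.residueField (g t))))
  let f := D.q.fiberToSpecResidueField (g t)
  haveI : QuasiCompact f := inferInstanceAs (QuasiCompact (pullback.snd _ _))
  haveI : QuasiSeparated f := inferInstanceAs (QuasiSeparated (pullback.snd _ _))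
  have hf : ∀ V, Function.Bijective (f.app V) := fun V =>
    (ConcreteCategory.isIso_iff_bijective _).1 (app_bijective_of_appTop f (D.h0_fiber h0) V)
  let L0 := (Scheme.Modules.pullback (D.q.fiberι (g t))).obj D.L
  have ψ : (Scheme.Modules.pullback φ).obj L0 ≅ Coh.structureModule _ :=
    (Scheme.Modules.pullbackComp φ (D.q.fiberι (g t))).app D.L ≪≫ (Scheme.Modules.pullbackCongr hφ).app D.L ≪≫
      ((Scheme.Modules.pullbackComp (D'.q.fiberι t) B.eP).app D.L).symm ≪≫
        (Scheme.Modules.pullback (D'.q.fiberι t)).mapIso B.eL ≪≫ h.some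
  obtain ⟨hN, hε⟩ := ParaF26.DescPush.invertible_and_counit f _ _ φ hsq hf L0 (Amp73.isInvertible_pullback _ D.hL) ψ
  obtain ⟨i⟩ := iso_of_invertible_subsingleton hN
  exact ⟨(asIso ((Scheme.Modules.pullbackPushforwardAdjunction f).counit.app L0)).symm ≪≫
    (Scheme.Modules.pullback f).mapIso i ≪≫ PicLoc.pullbackStructureIso f⟩

include B in
theorem isIntegral_of (h : IsIntegral (D'.q.fiber t)) : IsIntegral (D.q.fiber (g t)) := by
  obtain ⟨φ, -, hsq⟩ := exists_fiberMap D.q g B.hP t
  haveI : Flat φ := MorphismProperty.of_isPullback (P := @Flat) hsq.flip (flat_resMap g t)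
  haveI : Surjective φ := MorphismProperty.of_isPullback (P := @Surjective) hsq.flip (surjective_resMap g t)
  rw [isIntegral_iff_irreducibleSpace_and_isReduced]
  haveI := h
  refine ⟨?_, LimTop61.isReduced_of_flat_surjective φ⟩
  have h2 : IsIrreducible (Set.univ : Set ↥(D.q.fiber (g t))) := by
    have h1 := (IrreducibleSpace.isIrreducible_univ (X := ↥(D'.q.fiber t))).image φ φ.continuous.continuousOn
    convert h1 using 1
    exact (Set.image_univ.trans (Set.range_eq_univ.2 φ.surjective)).symm
  exact { isPreirreducible_univ := h2.2, toNonempty := ⟨h2.1.some⟩ }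

end BC

end Groth.Agent.Cube73
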