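import Mathlib.AlgebraicGeometry.Morphisms.Flat
import Mathlib.RingTheory.IsTensorProduct

/-!
Rings of functions on opens of a scheme over a base, as algebras over the global functions of the base,
and the functions on a product of affine opens as a tensor product.
-/

set_option autoImplicit false
set_option backward.isDefEq.respectTransparency.types false
set_option linter.style.haveILetI false

noncomputable section

universe u

open CategoryTheory Limits AlgebraicGeometry TopologicalSpace Opposite TensorProduct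

namespace Groth.Agent.Cube73

variable {S X Y P : Scheme.{u}}

/-- Functions on an open of a scheme over `S`. -/
def Fn (_q : X ⟶ S) (U : X.Opens) : Type u := Γ(X, U)

instance (q : X ⟶ S) (U : X.Opens) : CommRing (Fn q U) := inferInstanceAs (CommRing Γ(X, U))

instance (q : X ⟶ S) (U : X.Opens) : Algebra Γ(S, ⊤) (Fn q U) := (q.appLE ⊤ U le_top).hom.toAlgebra

/-- Restriction of functions. -/
def rs (q : X ⟶ S) {U V : X.Opens} (h : V ≤ U) : Fn q U →ₐ[Γ(S, ⊤)] Fn q V :=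
  { (X.presheaf.map (homOfLE h).op).hom with
    commutes' := fun r => ConcreteCategory.congr_hom (Scheme.Hom.appLE_map q (le_top : U ≤ q ⁻¹ᵁ ⊤) (homOfLE h).op) r }

theorem rs_rs (q : X ⟶ S) {U V W : X.Opens} (h : V ≤ U) (h' : W ≤ V) (f : Fn q U) :
    rs q h' (rs q h f) = rs q (h'.trans h) f := by
  show (X.presheaf.map _ ≫ X.presheaf.map _) (show Γ(X, U) from f) = _
  rw [← Functor.map_comp]
  rfl

theorem rs_self (q : X ⟶ S) {U : X.Opens} (f : Fn q U) : rs q (le_refl U) f = f :=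
  ConcreteCategory.congr_hom (X.presheaf.map_id (op U)) (show Γ(X, U) from f)

/-- Inverse image of functions. -/
def pb {q : X ⟶ S} {q' : P ⟶ S} (g : P ⟶ X) (hg : g ≫ q = q') {U : X.Opens} {W : P.Opens}
    (e : W ≤ g ⁻¹ᵁ U) : Fn q U →ₐ[Γ(S, ⊤)] Fn q' W :=
  { (g.appLE U W e).hom with
    commutes' := fun r => by
      subst hg
      exact ConcreteCategory.congr_hom (Scheme.Hom.appLE_comp_appLE g q ⊤ U W le_top e) r }

theorem rs_pb {q : X ⟶ S} {q' : P ⟶ S} (g : P ⟶ X) (hg : g ≫ q = q') {U : X.Opens} {W W' : P.Opens}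
    (e : W ≤ g ⁻¹ᵁ U) (h : W' ≤ W) (f : Fn q U) :
    rs q' h (pb g hg e f) = pb g hg (h.trans e) f :=
  ConcreteCategory.congr_hom (Scheme.Hom.appLE_map g e (homOfLE h).op) (show Γ(X, U) from f)

theorem pb_rs {q : X ⟶ S} {q' : P ⟶ S} (g : P ⟶ X) (hg : g ≫ q = q') {U U' : X.Opens} {W : P.Opens}
    (h : U' ≤ U) (e : W ≤ g ⁻¹ᵁ U') (f : Fn q U) :
    pb g hg e (rs q h f) = pb g hg (e.trans (g.preimage_mono h)) f :=
  ConcreteCategory.congr_hom (Scheme.Hom.map_appLE g e (homOfLE h).op) (show Γ(X, U) from f)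

theorem pb_pb {Q : Scheme.{u}} {q : X ⟶ S} {q' : P ⟶ S} {q'' : Q ⟶ S} (g : P ⟶ X) (hg : g ≫ q = q')
    (g' : Q ⟶ P) (hg' : g' ≫ q' = q'') {U : X.Opens} {W : P.Opens} {W' : Q.Opens}
    (e : W ≤ g ⁻¹ᵁ U) (e' : W' ≤ g' ⁻¹ᵁ W) (f : Fn q U) :
    pb g' hg' e' (pb g hg e f) = pb (g' ≫ g) (show (g' ≫ g) ≫ q = q'' by rw [Category.assoc, hg, hg'])
      (e'.trans (g'.preimage_mono e)) f :=
  ConcreteCategory.congr_hom (Scheme.Hom.appLE_comp_appLE g' g U W W' e e') (show Γ(X, U) from f)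

theorem pb_congr {q : X ⟶ S} {q' : P ⟶ S} {g g' : P ⟶ X} (h : g = g') (hg : g ≫ q = q') {U : X.Opens}
    {W : P.Opens} (e : W ≤ g ⁻¹ᵁ U) (e' : W ≤ g' ⁻¹ᵁ U) (f : Fn q U) :
    pb g hg e f = pb g' (h ▸ hg) e' f := by
  subst h; rfl

theorem pb_id {q : X ⟶ S} {U W : X.Opens} (h : W ≤ U) (f : Fn q U) :
    pb (q' := q) (𝟙 X) (Category.id_comp q) (show W ≤ (𝟙 X) ⁻¹ᵁ U from h) f = rs q h f :=
  ConcreteCategory.congr_hom (show (𝟙 X : X ⟶ X).appLE U W h = X.presheaf.map (homOfLE h).op by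
    rw [Scheme.Hom.appLE, Scheme.Hom.id_app]; exact Category.id_comp _) (show Γ(X, U) from f)

section Product

variable {qX : X ⟶ S} {qY : Y ⟶ S} {qP : P ⟶ S} {a : P ⟶ X} {b : P ⟶ Y} (ha : a ≫ qX = qP)
  (hb : b ≫ qY = qP)

/-- The product of two opens. -/
abbrev box (a : P ⟶ X) (b : P ⟶ Y) (U : X.Opens) (V : Y.Opens) : P.Opens := a ⁻¹ᵁ U ⊓ b ⁻¹ᵁ V

/-- `u ⊗ v ↦ a^*u · b^*v`. -/
def θ (U : X.Opens) (V : Y.Opens) : Fn qX U ⊗[Γ(S, ⊤)] Fn qY V →ₐ[Γ(S, ⊤)] Fn qP (box a b U V) :=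
  Algebra.TensorProduct.productMap (pb a ha inf_le_left) (pb b hb inf_le_right)

theorem θ_tmul (U : X.Opens) (V : Y.Opens) (u : Fn qX U) (v : Fn qY V) :
    θ ha hb U V (u ⊗ₜ v) = pb a ha inf_le_left u * pb b hb inf_le_right v :=
  Algebra.TensorProduct.productMap_apply_tmul _ _ _ _

theorem rs_θ {U U' : X.Opens} {V V' : Y.Opens} (hU : U' ≤ U) (hV : V' ≤ V)
    (z : Fn qX U ⊗[Γ(S, ⊤)] Fn qY V) :
    rs qP (inf_le_inf (a.preimage_mono hU) (b.preimage_mono hV)) (θ ha hb U V z) =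
      θ ha hb U' V' (Algebra.TensorProduct.map (rs qX hU) (rs qY hV) z) := by
  induction z with
  | zero => simp
  | add z z' hz hz' => simp only [map_add, hz, hz']
  | tmul u v =>
    rw [Algebra.TensorProduct.map_tmul, θ_tmul, θ_tmul, map_mul, rs_pb, rs_pb, pb_rs, pb_rs]

theorem θ_bijective (H : IsPullback a b qX qY) [IsAffine S] {U : X.Opens} (hU : IsAffineOpen U)
    {V : Y.Opens} (hV : IsAffineOpen V) : Function.Bijective (θ ha hb U V) := by
  have hpo := (isIso_pushoutSection_iff H (US := ⊤) (UT := V) (UX := U) (UY := box a b U V) le_top le_top rfl).1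
    (isIso_pushoutSection_of_isAffineOpen H le_top le_top rfl (isAffineOpen_top _) hV hU)
  letI : Algebra (Fn qX U) (Fn qP (box a b U V)) := (pb a ha (inf_le_left : box a b U V ≤ _)).toAlgebra
  letI : Algebra (Fn qY V) (Fn qP (box a b U V)) := (pb b hb (inf_le_right : box a b U V ≤ _)).toAlgebra
  haveI : IsScalarTower Γ(S, ⊤) (Fn qX U) (Fn qP (box a b U V)) :=
    IsScalarTower.of_algebraMap_eq fun r => ((pb a ha _).commutes r).symm
  haveI : IsScalarTower Γ(S, ⊤) (Fn qY V) (Fn qP (box a b U V)) :=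
    IsScalarTower.of_algebraMap_eq fun r => ((pb b hb _).commutes r).symm
  have hp : Algebra.IsPushout Γ(S, ⊤) (Fn qX U) (Fn qY V) (Fn qP (box a b U V)) :=
    CommRingCat.isPushout_iff_isPushout.mp hpo
  have heq : ∀ z, θ ha hb U V z = (Algebra.IsPushout.equiv Γ(S, ⊤) (Fn qX U) (Fn qY V) (Fn qP (box a b U V))) z := by
    intro z
    induction z with
    | zero => simp
    | add z z' hz hz' => simp only [map_add, hz, hz']
    | tmul u v =>
      rw [θ_tmul, Algebra.IsPushout.equiv_tmul]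
      rfl
  rw [show (θ ha hb U V : _ → _) = _ from funext heq]
  exact AlgEquiv.bijective _

end Product

end Groth.Agent.Cube73
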