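import Groth.Agent.Cube73.Coord
import Groth.Agent.LimTop61.PullSec

/-!
Modules with a frame on the closed fibre, and congruences of their sections.
-/

set_option autoImplicit false
set_option maxSynthPendingDepth 6
set_option linter.style.haveILetI false
set_option linter.unusedSectionVars false
set_option backward.isDefEq.respectTransparency.types false

noncomputable section

universe u

open CategoryTheory Limits AlgebraicGeometry TopologicalSpace Opposite TensorProduct
open Groth.Agent.Var76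

namespace Groth.Agent.Cube73

open QC70 FF71 QCPull72

variable {A : Type u} [CommRing A] {X : Scheme.{u}} [X.Over (Spec (CommRingCat.of A))]

theorem smul_mem_secI' {J : Ideal A} {M : X.Modules} {V : X.Opens} {f : Γ(X, V)} (hf : f ∈ J.map (rA A X V))
    (x : Γ(M, V)) : f • x ∈ secI A J M V := Submodule.smul_mem_smul hf trivial

theorem smul_secI {J K : Ideal A} {M : X.Modules} {V : X.Opens} {f : Γ(X, V)} (hf : f ∈ J.map (rA A X V))
    {x : Γ(M, V)} (hx : x ∈ secI A K M V) : f • x ∈ secI A (J * K) M V := by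
  show f • x ∈ (Ideal.map (rA A X V) (J * K)) • (⊤ : Submodule Γ(X, V) Γ(M, V))
  rw [Ideal.map_mul, mul_smul]
  exact Submodule.smul_mem_smul hf hx

/-- Congruences of functions on a frame. -/
theorem secI_frame {M : X.Modules} {V : X.Opens} {e : Γ(M, V)}
    (he : Function.Bijective fun f : Γ(X, V) => f • e) {J : Ideal A} {f : Γ(X, V)}
    (hf : f • e ∈ secI A J M V) : f ∈ J.map (rA A X V) := by
  have : ∃ g ∈ J.map (rA A X V), f • e = g • e := by
    refine secI_induction (P := fun x => ∃ g ∈ J.map (rA A X V), x = g • e) ⟨0, zero_mem _, (zero_smul _ _).symm⟩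
      ?_ ?_ hf
    · rintro _ _ ⟨g, hg, rfl⟩ ⟨g', hg', rfl⟩
      exact ⟨g + g', add_mem hg hg', (add_smul _ _ _).symm⟩
    · intro a ha y
      obtain ⟨g, rfl⟩ := he.2 y
      exact ⟨rA A X V a * g, Ideal.mul_mem_right _ _ (Ideal.mem_map_of_mem _ ha), (mul_smul _ _ _).symm⟩
  obtain ⟨g, hg, h⟩ := this
  exact he.1 h ▸ hg

/-- Inverse images of sections preserve congruences. -/
theorem unitSec_mem {P : Scheme.{u}} [P.Over (Spec (CommRingCat.of A))] (i : X ⟶ P)
    (hi : i ≫ (P ↘ Spec (CommRingCat.of A)) = X ↘ Spec (CommRingCat.of A)) {L : P.Modules} {W : P.Opens}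
    {O : X.Opens} (e : O ≤ i ⁻¹ᵁ W) {J : Ideal A} {z : Γ(L, W)} (hz : z ∈ secI A J L W) :
    unitSec i L e z ∈ secI A J ((Scheme.Modules.pullback i).obj L) O := by
  refine secI_induction (P := fun z => unitSec i L e z ∈ secI A J ((Scheme.Modules.pullback i).obj L) O) ?_ ?_ ?_ hz
  · rw [LimTop61.unitSec_zero]; exact zero_mem _
  · intro a b ha hb; rw [LimTop61.unitSec_add]; exact add_mem ha hb
  · intro a ha y; rw [LimTop61.unitSec_smul, appLE_rA i hi]; exact smul_mem_secI ha _

variable (m : Ideal A) (L : X.Modules)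

/-- A section which is a frame on the closed fibre. -/
def FMod {W : X.Opens} (t : Γ(L, W)) : Prop :=
  LineBundle.IsFrame ((Scheme.Modules.pullback (fibι X m)).obj L) (fibι X m ⁻¹ᵁ W) (Amp73.pullS (fibι X m) L W t)

variable {m L}

theorem FMod.res {W W' : X.Opens} {t : Γ(L, W)} (ht : FMod m L t) (h : W' ≤ W) :
    FMod m L (QC70.res L h t) := by
  have h1 := LineBundle.IsFrame.res ht ((fibι X m).preimage_mono h)
  rw [Amp73.res_pullS] at h1
  exact h1

variable [L.IsQuasicoherent] {W : X.Opens} (hW : IsAffineOpen W) {t : Γ(L, W)}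

include hW in
theorem FMod.exists_coef (ht : FMod m L t) (x : Γ(L, W)) : ∃ C : Γ(X, W), x - C • t ∈ secI A m L W := by
  obtain ⟨c, hc⟩ := (ht _ le_rfl).2 (Amp73.pullS (fibι X m) L W x)
  obtain ⟨C, rfl⟩ := (fun_fib m hW).1 c
  refine ⟨C, ((sec_fib m hW).2 _).1 ?_⟩
  have h1 : Amp73.pullS (fibι X m) L W (x - C • t) =
      Amp73.pullS (fibι X m) L W x - Amp73.pullS (fibι X m) L W (C • t) :=
    map_sub (((Scheme.Modules.pullbackPushforwardAdjunction (fibι X m)).unit.app L).app W).hom x (C • t)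
  rw [h1, Amp73.pullS_smul, sub_eq_zero, ← hc]
  exact congrArg (fun z => (fibι X m).app W C • z) (QC70.res_self _)

include hW in
theorem FMod.coef_mem (ht : FMod m L t) {C : Γ(X, W)} (hC : C • t ∈ secI A m L W) : C ∈ m.map (rA A X W) := by
  refine ((fun_fib m hW).2 _).1 ((ht _ le_rfl).1 ?_)
  have h1 := ((sec_fib m hW).2 _).2 hC
  rw [Amp73.pullS_smul] at h1
  refine Eq.trans ?_ (zero_smul _ _).symm
  exact (congrArg (fun z => (fibι X m).app W C • z) (QC70.res_self _)).trans h1

variable {J : Ideal A} (β : SmallBasis m J)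

include hW β in
theorem FMod.exists_lin (ht : FMod m L t) {x : Γ(L, W)} (hx : x ∈ secI A J L W) :
    ∃ C : Fin β.r → Γ(X, W), x - lin β C • t ∈ secI A (m * J) L W := by
  letI := modA (A := A) L W
  obtain ⟨c, hc⟩ := exists_coords β ((mem_secI_iff x).1 hx)
  choose C hC using fun l => ht.exists_coef hW (c l)
  refine ⟨C, ?_⟩
  have h1 : x - ∑ l, rA A X W (β.b l) • c l ∈ secI A (m * J) L W := (mem_secI_iff _).2 hc
  have h2 : ∑ l, rA A X W (β.b l) • (c l - C l • t) ∈ secI A (m * J) L W := Submodule.sum_mem _ fun l _ => by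
    rw [mul_comm m J]
    exact smul_secI (Ideal.mem_map_of_mem _ (β.mem l)) (hC l)
  convert Submodule.add_mem _ h1 h2 using 1
  simp only [lin, Finset.sum_smul, smul_sub, mul_smul, Finset.sum_sub_distrib]
  abel

include hW in
theorem FMod.lin_coef_mem [Flat (X ↘ Spec (CommRingCat.of A))] (hL : FlatMod.IsFinLocFree L) (ht : FMod m L t)
    {C : Fin β.r → Γ(X, W)} (hC : lin β C • t ∈ secI A (m * J) L W) (l : Fin β.r) : C l ∈ m.map (rA A X W) := by
  letI := modA (A := A) L W
  haveI := flat_sec (A := A) hL hW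
  refine ht.coef_mem hW ((mem_secI_iff _).2 (coords_mem β (fun l => C l • t) ?_ l))
  have h := (mem_secI_iff _).1 hC
  convert h using 1
  simp only [lin, Finset.sum_smul, mul_smul]
  rfl

end Groth.Agent.Cube73
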