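import Groth.Agent.Cube73.Open
import Groth.Agent.Cube73.Datum
import Groth.Agent.Desc59.FlatH0

/-!
Cube data over the spectrum of a Noetherian local ring.
-/

set_option autoImplicit false
set_option maxSynthPendingDepth 6
set_option linter.style.haveILetI false
set_option linter.unusedSectionVars false
set_option backward.isDefEq.respectTransparency.types false

noncomputable section

universe u

open CategoryTheory Limits AlgebraicGeometry TopologicalSpace Opposite
open Groth.Agent.Var76

namespace Groth.Agent.Cube73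

open FF71

theorem exists_cover_at {X : Scheme.{u}} [CompactSpace X] (x₀ : X) :
    ∃ (n : ℕ) (U : Fin n → X.Opens) (α₀ : Fin n), (∀ α, IsAffineOpen (U α)) ∧ (∀ t, ∃ α, t ∈ U α) ∧ x₀ ∈ U α₀ := by
  obtain ⟨n, U, hU, hcov⟩ := Desc59.FlatH0.exists_finite_affine_cover (X := X) (O := ⊤) isCompact_univ
  obtain ⟨α₀, hα⟩ := hcov x₀ trivial
  exact ⟨n, U, α₀, fun α => (hU α).1, fun t => hcov t trivial, hα⟩

theorem preimage_eq_top {A : Type u} [CommRing A] [IsLocalRing A] {X : Scheme.{u}}
    (x : Spec (CommRingCat.of A) ⟶ X) {U : X.Opens} (h : x (IsLocalRing.closedPoint A) ∈ U) : x ⁻¹ᵁ U = ⊤ := by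
  ext t
  refine ⟨fun _ => trivial, fun _ => ?_⟩
  exact (IsLocalRing.specializes_closedPoint (R := A) t).mem_open (x ⁻¹ᵁ U).isOpen h

/-- A cube datum over a Noetherian local ring, trivial on the closed fibre, is trivial. -/
theorem exists_frame_local {A : Type u} [CommRing A] [IsNoetherianRing A] [IsLocalRing A]
    (D : Datum (Spec (CommRingCat.of A)))
    (h0X : Function.Bijective (pullback.snd D.qX
      (Spec.map (CommRingCat.ofHom (algebraMap A (A ⧸ IsLocalRing.maximalIdeal A))))).appTop)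
    (h0Y : Function.Bijective (pullback.snd D.qY
      (Spec.map (CommRingCat.ofHom (algebraMap A (A ⧸ IsLocalRing.maximalIdeal A))))).appTop)
    (F : Γ((Scheme.Modules.pullback (pullback.fst D.q
      (Spec.map (CommRingCat.ofHom (algebraMap A (A ⧸ IsLocalRing.maximalIdeal A)))))).obj D.L, ⊤))
    (hF : LineBundle.IsFrame ((Scheme.Modules.pullback (pullback.fst D.q
      (Spec.map (CommRingCat.ofHom (algebraMap A (A ⧸ IsLocalRing.maximalIdeal A)))))).obj D.L) ⊤ F) :
    ∃ T : Γ(D.L, ⊤), LineBundle.IsFrame D.L ⊤ T ∧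
      Amp73.pullS (pullback.fst D.q
        (Spec.map (CommRingCat.ofHom (algebraMap A (A ⧸ IsLocalRing.maximalIdeal A))))) D.L ⊤ T = F := by
  letI oX : D.X.Over (Spec (CommRingCat.of A)) := ⟨D.qX⟩
  letI oY : D.Y.Over (Spec (CommRingCat.of A)) := ⟨D.qY⟩
  letI oP : D.P.Over (Spec (CommRingCat.of A)) := ⟨D.q⟩
  haveI : IsProper (D.X ↘ Spec (CommRingCat.of A)) := D.properX
  haveI : IsProper (D.Y ↘ Spec (CommRingCat.of A)) := D.properY
  haveI : IsProper (D.P ↘ Spec (CommRingCat.of A)) := (inferInstance : IsProper D.q)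
  haveI : Flat (D.X ↘ Spec (CommRingCat.of A)) := D.flatX
  haveI : Flat (D.Y ↘ Spec (CommRingCat.of A)) := D.flatY
  haveI : Flat (D.P ↘ Spec (CommRingCat.of A)) := (inferInstance : Flat D.q)
  haveI : CompactSpace D.X := QuasiCompact.compactSpace_of_compactSpace D.qX
  haveI : CompactSpace D.Y := QuasiCompact.compactSpace_of_compactSpace D.qY
  obtain ⟨nX, U, α₀, hU, hcov, hα⟩ := exists_cover_at (D.x (IsLocalRing.closedPoint A))
  obtain ⟨nY, V, k₀, hV, hVcov, hk⟩ := exists_cover_at (D.y (IsLocalRing.closedPoint A))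
  obtain ⟨eX, heX⟩ := exists_frame_of_iso D.trivX.some
  obtain ⟨eY, heY⟩ := exists_frame_of_iso D.trivY.some
  let S : Setup (A := A) D.X D.Y D.P D.L :=
    { a := D.a, b := D.b, H := D.H, ha := rfl, hb := D.q_eq, x := D.x, hx := D.hx, y := D.y, hy := D.hy,
      ix := D.ix, hix := D.hix, hix' := D.hix', iy := D.iy, hiy := D.hiy, hiy' := D.hiy', h0X := h0X, h0Y := h0Y,
      hL := isFinLocFree_of_isInvertible D.hL, eX := eX, heX := heX, eY := eY, heY := heY, nX := nX, nY := nY,
      U := U, V := V, hU := hU, hV := hV, hcov := hcov, hVcov := hVcov, α₀ := α₀, hα₀ := preimage_eq_top D.x hα,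
      k₀ := k₀, hk₀ := preimage_eq_top D.y hk }
  exact S.exists_frame D.hL F hF

end Groth.Agent.Cube73
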