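import Groth.Agent.Cube73.Step
import Groth.Agent.FF71.Main
import Groth.Agent.Crv77.Sections
import Groth.Agent.CD47.Resolution
import Groth.Agent.AbVar93.TrivDescent

/-!
Over a Noetherian local ring, a module on a product of two flat proper schemes trivial on both slices and
on the closed fibre is trivial.
-/

set_option autoImplicit false
set_option maxSynthPendingDepth 6
set_option linter.style.haveILetI false
set_option linter.unusedSectionVars false
set_option backward.isDefEq.respectTransparency.types false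

noncomputable section

universe u

open CategoryTheory Limits AlgebraicGeometry TopologicalSpace Opposite TensorProduct
open Groth.Agent.Var76

namespace Groth.Agent.Cube73

open QC70 FF71 QCPull72

theorem isFinLocFree_of_isInvertible {Z : Scheme.{u}} {L : Z.Modules} (hL : PicF.IsInvertible L) :
    FlatMod.IsFinLocFree L := fun x => by
  obtain ⟨U, hx, ⟨i⟩⟩ := hL x
  exact ⟨U, 1, hx, ⟨i ≪≫ (coproductUniqueIso fun _ : Fin 1 => Coh.structureModule (↑U : Scheme.{u})).symm⟩⟩

theorem sec_hm {A : Type u} [CommRing A] {Z : Scheme.{u}} [Z.Over (Spec (CommRingCat.of A))] {M N : Z.Modules}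
    (φ : M ⟶ N) (x : Coh.HH Z M 0) : Crv77.sec N (FF71.hm φ 0 x) = φ.app ⊤ (Crv77.sec M x) :=
  Crv77.sec_hmap A φ x

variable {A : Type u} [CommRing A] [IsNoetherianRing A] [IsLocalRing A]
variable {X Y P : Scheme.{u}} [X.Over (Spec (CommRingCat.of A))] [Y.Over (Spec (CommRingCat.of A))]
  [P.Over (Spec (CommRingCat.of A))] [Flat (X ↘ Spec (CommRingCat.of A))] [Flat (Y ↘ Spec (CommRingCat.of A))]
  [Flat (P ↘ Spec (CommRingCat.of A))] [IsSeparated (X ↘ Spec (CommRingCat.of A))]
  [IsSeparated (Y ↘ Spec (CommRingCat.of A))] [QuasiCompact (Y ↘ Spec (CommRingCat.of A))]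
  [IsProper (P ↘ Spec (CommRingCat.of A))]
  {L : P.Modules} (S : Setup (A := A) X Y P L)

include S in
theorem Setup.exists_frame (hLi : PicF.IsInvertible L)
    (F : Γ((Scheme.Modules.pullback (fibι P (IsLocalRing.maximalIdeal A))).obj L, ⊤))
    (hF : LineBundle.IsFrame ((Scheme.Modules.pullback (fibι P (IsLocalRing.maximalIdeal A))).obj L) ⊤ F) :
    ∃ T : Γ(L, ⊤), LineBundle.IsFrame L ⊤ T ∧
      Amp73.pullS (fibι P (IsLocalRing.maximalIdeal A)) L ⊤ T = F := by
  let m := IsLocalRing.maximalIdeal A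
  let j := fibι P m
  let N := (Scheme.Modules.pullback j).obj L
  haveI := Props58.LocFree.isQuasicoherent_of_isFinLocFree S.hL
  have haff : ∀ i, IsAffineOpen (S.W i) := fun i => affine_box S.H (S.hU i.1) (S.hV i.2)
  let Fi : ∀ i, Γ(N, j ⁻¹ᵁ S.W i) := fun i => res N le_top F
  choose t₁ ht₁ using fun i => (sec_fib m (haff i)).1 (Fi i)
  have hsub : ∀ {V : P.Opens} (p q : Γ(L, V)),
      Amp73.pullS j L V (p - q) = Amp73.pullS j L V p - Amp73.pullS j L V q :=
    fun {V} p q => map_sub (((Scheme.Modules.pullbackPushforwardAdjunction j).unit.app L).app V).hom p q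
  have key : ∀ n : ℕ, ∃ t : ∀ i, Γ(L, S.W i), S.Triv (n + 1) t ∧ ∀ i, Amp73.pullS j L (S.W i) (t i) = Fi i := by
    intro n
    induction n with
    | zero =>
      refine ⟨t₁, ⟨fun i => ?_, fun i i' => ?_⟩, ht₁⟩
      · show LineBundle.IsFrame _ _ (Amp73.pullS j L (S.W i) (t₁ i))
        rw [ht₁]
        exact LineBundle.IsFrame.res hF le_top
      · have hO : IsAffineOpen (S.W i ⊓ S.W i') := by
          show IsAffineOpen (box _ _ _ _ ⊓ box _ _ _ _)
          rw [box_inf]
          exact affine_box S.H (affine_inf (X ↘ Spec (CommRingCat.of A)) (S.hU i.1) (S.hU i'.1))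
            (affine_inf (Y ↘ Spec (CommRingCat.of A)) (S.hV i.2) (S.hV i'.2))
        rw [pow_one]
        refine ((sec_fib m hO).2 _).1 ?_
        rw [hsub, ← Amp73.res_pullS, ← Amp73.res_pullS, ht₁, ht₁, sub_eq_zero]
        exact (QC70.res_res (M := N) _ _ F).trans (QC70.res_res (M := N) _ _ F).symm
    | succ n ih =>
      obtain ⟨t, ht, hpt⟩ := ih
      obtain ⟨t', ht', hd⟩ := S.step (Nat.succ_ne_zero n) t ht
      refine ⟨t', ht', fun i => ?_⟩
      have h := ((sec_fib m (haff i)).2 _).2 (secI_le (Ideal.pow_le_self (Nat.succ_ne_zero n)) _ (hd i))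
      rw [hsub, sub_eq_zero] at h
      rw [h, hpt]
  have hLcoh : Coh.IsCoh L := CD47.isCoh_of_isFinLocFree S.hL
  obtain ⟨c, hc⟩ := exists_range_trH (A := A) m L hLcoh 0
  obtain ⟨t, ⟨-, htd⟩, hpt⟩ := key c
  let Q := Formal.modPow m (c + 1) L
  have hQ : TopCat.Presheaf.IsCompatible Q.presheaf S.W fun i => (Formal.modPowπ m (c + 1) L).app (S.W i) (t i) := by
    intro i i'
    show res Q inf_le_left _ = res Q inf_le_right _
    rw [← app_res, ← app_res, ← sub_eq_zero, ← map_sub]
    exact modPowπ_app_of_mem m L (c + 1) (htd i i')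
  have hcovW : ∀ z : P, ∃ i, z ∈ S.W i := fun z => by
    obtain ⟨α, hα⟩ := S.hcov (S.a z)
    obtain ⟨k, hk⟩ := S.hVcov (S.b z)
    exact ⟨(α, k), hα, hk⟩
  obtain ⟨z, hz, -⟩ := TopCat.Sheaf.existsUnique_gluing' (C := AddCommGrpCat.{u})
    (⟨Q.presheaf, Q.isSheaf⟩ : TopCat.Sheaf AddCommGrpCat.{u} P) S.W ⊤ (fun i => homOfLE le_top)
    (fun z _ => Opens.mem_iSup.mpr (hcovW z)) _ hQ
  obtain ⟨h, hh⟩ : trH (A := A) m L 0 (Nat.zero_le c) ((Crv77.sec Q).symm z) ∈
      Set.range (Formal.toHHmodPow m L 0 0) := by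
    rw [← hc 0 c (Nat.zero_le c) (by omega)]
    exact ⟨_, rfl⟩
  let T := Crv77.sec L h
  have hT : Amp73.pullS j L ⊤ T = F := by
    refine Desc59.FlatH0.eq_of_cover N (fun i => j ⁻¹ᵁ S.W i) (fun i => le_top) (fun z _ => hcovW (j z)) fun i => ?_
    refine (Amp73.res_pullS j L (le_top : S.W i ≤ ⊤) T).trans ?_
    refine Eq.trans ?_ (hpt i)
    rw [← sub_eq_zero, ← hsub, (sec_fib m (haff i)).2]
    have h1 := congrArg (Crv77.sec (Formal.modPow m (0 + 1) L)) hh
    rw [toHHmodPow_eq_hm (A := A), sec_hm (A := A)] at h1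
    have h2 : Crv77.sec (Formal.modPow m (0 + 1) L) (trH (A := A) m L 0 (Nat.zero_le c) ((Crv77.sec Q).symm z)) =
        ((Formal.completion m L).map (homOfLE (Nat.zero_le c)).op).app ⊤ z := by
      refine (sec_hm (A := A) _ _).trans ?_
      exact congrArg _ (AddEquiv.apply_symm_apply (Crv77.sec Q) z)
    rw [h2] at h1
    have h3 := congrArg (QC70.res (Formal.modPow m (0 + 1) L) (le_top : S.W i ≤ ⊤)) h1
    erw [← app_res, ← app_res] at h3
    have hzi : QC70.res Q (le_top : S.W i ≤ ⊤) z = (Formal.modPowπ m (c + 1) L).app (S.W i) (t i) := hz i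
    erw [hzi] at h3
    have h4 : ((Formal.completion m L).map (homOfLE (Nat.zero_le c)).op).app (S.W i)
        ((Formal.modPowπ m (c + 1) L).app (S.W i) (t i)) = (Formal.modPowπ m (0 + 1) L).app (S.W i) (t i) :=
      congrArg (fun φ => φ.app (S.W i) (t i)) (modPowπ_completion_map (A := A) m L (Nat.zero_le c))
    have h5 := h3.trans h4
    have h6 : (Formal.modPowπ m (0 + 1) L).app (S.W i) (QC70.res L (le_top : S.W i ≤ ⊤) T - t i) = 0 := by
      rw [map_sub, sub_eq_zero]
      exact h5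
    have h7 := mem_secI_of_modPowπ_eq_zero m L (0 + 1) (haff i) h6
    rwa [zero_add, pow_one] at h7
  refine ⟨T, ?_, hT⟩
  let φ := EGA73.unitHom L T
  have hgen : (⊤ : P.Opens) ≤ CohB1.genLocus L φ := by
    intro w _
    by_contra hw
    let Z : Set P := (CohB1.genLocus L φ : Set P)ᶜ
    have hZ : IsClosed Z := (CohB1.genLocus L φ).isOpen.isClosed_compl
    have hc' := (P ↘ Spec (CommRingCat.of A)).isClosedMap _ hZ
    have hmem : IsLocalRing.closedPoint A ∈ (P ↘ Spec (CommRingCat.of A)) '' Z := by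
      refine hc'.stableUnderSpecialization ?_ (Set.mem_image_of_mem _ (show w ∈ Z from hw))
      exact IsLocalRing.specializes_closedPoint _
    obtain ⟨w', hw', hw'q⟩ := hmem
    have hγ : IsLocalRing.closedPoint A ∈ Set.range (Spec.map (CommRingCat.ofHom (algebraMap A (A ⧸ m)))) := by
      haveI : Nontrivial (A ⧸ m) := Ideal.Quotient.nontrivial_iff.mpr (IsLocalRing.maximalIdeal.isMaximal A).ne_top
      obtain ⟨q⟩ := (inferInstance : Nonempty (PrimeSpectrum (A ⧸ m)))
      have hq : PrimeSpectrum.comap (algebraMap A (A ⧸ m)) q = IsLocalRing.closedPoint A := by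
        refine PrimeSpectrum.ext (le_antisymm (IsLocalRing.le_maximalIdeal (Ideal.IsPrime.ne_top inferInstance)) ?_)
        intro c hc
        show Ideal.Quotient.mk m c ∈ q.asIdeal
        rw [(Ideal.Quotient.eq_zero_iff_mem (I := m)).2 hc]
        exact zero_mem _
      exact ⟨q, hq⟩
    obtain ⟨q, hq⟩ := hγ
    obtain ⟨w'', hw'', -⟩ := Scheme.Pullback.exists_preimage_pullback w' q (hw'q.trans hq.symm)
    apply hw'
    rw [← hw'']
    have h1 : w'' ∈ CohB1.genLocus _ (Amp73.pullHom j φ) := by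
      refine (Amp73.isFrame_iff_le_genLocus _ ⊤).1 ?_ trivial
      have hv : LineBundle.res L le_rfl T = T := Amp73.res_self L T
      rw [show Var76.ZeroScheme.val _ (Amp73.pullHom j φ) ⊤ = F from (Amp73.val_pullHom j φ ⊤).trans
        ((congrArg (Amp73.pullS j L ⊤) (AbVar93.val_eq L T)).trans hT)]
      exact hF
    rw [Amp73.genLocus_pullHom j hLi φ] at h1
    exact h1
  have := (Amp73.isFrame_iff_le_genLocus φ ⊤).2 hgen
  rwa [AbVar93.val_eq] at this

end Groth.Agent.Cube73
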