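import Groth.Agent.Cube73.Frame
import Mathlib.RingTheory.LocalRing.MaximalIdeal.Basic

/-!
The obstruction cochain restricts to a coboundary on a slice on which the module is trivial.
-/

set_option autoImplicit false
set_option maxSynthPendingDepth 6
set_option linter.style.haveILetI false
set_option linter.unusedSectionVars false
set_option backward.isDefEq.respectTransparency.types false

noncomputable section

universe u

open CategoryTheory Limits AlgebraicGeometry TopologicalSpace Opposite TensorProduct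
open Groth.Agent.Var76

namespace Groth.Agent.Cube73

open QC70 FF71 QCPull72

variable {A : Type u} [CommRing A] [IsNoetherianRing A] [IsLocalRing A]

theorem slice_coboundary {X P : Scheme.{u}} [X.Over (Spec (CommRingCat.of A))] [P.Over (Spec (CommRingCat.of A))]
    [Flat (X ↘ Spec (CommRingCat.of A))] [IsSeparated (X ↘ Spec (CommRingCat.of A))]
    (h0 : Function.Bijective (fibq X (IsLocalRing.maximalIdeal A)).appTop)
    (x : Spec (CommRingCat.of A) ⟶ X) (hx : x ≫ (X ↘ Spec (CommRingCat.of A)) = 𝟙 _)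
    (i : X ⟶ P) (hi : i ≫ (P ↘ Spec (CommRingCat.of A)) = X ↘ Spec (CommRingCat.of A))
    (L : P.Modules) [L.IsQuasicoherent] (e : Γ((Scheme.Modules.pullback i).obj L, ⊤))
    (he : LineBundle.IsFrame ((Scheme.Modules.pullback i).obj L) ⊤ e)
    {ι : Type} {U : ι → X.Opens} (hU : ∀ α, IsAffineOpen (U α)) (hcov : ∀ t : X, ∃ α, t ∈ U α)
    (α₀ : ι) (hα₀ : x ⁻¹ᵁ U α₀ = ⊤)
    {W : ι → P.Opens} (hW : ∀ α, IsAffineOpen (W α)) (hWU : ∀ α, U α ≤ i ⁻¹ᵁ W α)
    (t : ∀ α, Γ(L, W α)) (ht : ∀ α, FMod (IsLocalRing.maximalIdeal A) L (t α))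
    {n : ℕ} (hn : n ≠ 0) (β : SmallBasis (IsLocalRing.maximalIdeal A) (IsLocalRing.maximalIdeal A ^ n))
    (C : ∀ α α', Fin β.r → Γ(P, W α ⊓ W α'))
    (hC : ∀ α α', res L inf_le_left (t α) - res L inf_le_right (t α') - lin β (C α α') • res L inf_le_right (t α') ∈
      secI A (IsLocalRing.maximalIdeal A * IsLocalRing.maximalIdeal A ^ n) L (W α ⊓ W α')) :
    ∃ s : Fin β.r → ∀ α, Γ(X, U α), ∀ l α α', ∃ e' : U α ⊓ U α' ≤ i ⁻¹ᵁ (W α ⊓ W α'),
      i.appLE _ _ e' (C α α' l) - (resO X inf_le_left (s l α) - resO X inf_le_right (s l α')) ∈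
        (IsLocalRing.maximalIdeal A).map (rA A X (U α ⊓ U α')) := by
  let m := IsLocalRing.maximalIdeal A
  let J := m ^ n
  have hJm : J ≤ m := Ideal.pow_le_self hn
  let M := (Scheme.Modules.pullback i).obj L
  have hb : ∀ O : X.Opens, Function.Bijective fun f : Γ(X, O) => f • res M (le_top : O ≤ ⊤) e :=
    fun O => he O le_top
  choose u hu using fun α => (hb (U α)).2 (unitSec i L (hWU α) (t α))
  have hle : ∀ α α', U α ⊓ U α' ≤ i ⁻¹ᵁ (W α ⊓ W α') := fun α α' z hz => ⟨hWU α hz.1, hWU α' hz.2⟩
  -- the restriction of the trivialisations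
  have hkey : ∀ α α', resO X (inf_le_left : U α ⊓ U α' ≤ U α) (u α) - resO X inf_le_right (u α') -
      lin β (fun l => i.appLE _ _ (hle α α') (C α α' l)) * resO X inf_le_right (u α') ∈
        (m * J).map (rA A X (U α ⊓ U α')) := by
    intro α α'
    refine secI_frame (hb (U α ⊓ U α')) ?_
    have h1 := unitSec_mem i hi (hle α α') (hC α α')
    have h2 : ∀ (γ : ι) (h : W α ⊓ W α' ≤ W γ) (h' : U α ⊓ U α' ≤ U γ),
        unitSec i L (hle α α') (res L h (t γ)) = resO X h' (u γ) • res M (le_top : U α ⊓ U α' ≤ ⊤) e := by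
      intro γ h h'
      rw [LimTop61.unitSec_res i L (hWU γ) (hle α α') h h', ← hu γ, QC70.res_smul, QC70.res_res]
    rw [show unitSec i L (hle α α') (res L inf_le_left (t α) - res L inf_le_right (t α') - lin β (C α α') • res L inf_le_right (t α')) =
      unitSec i L (hle α α') (res L inf_le_left (t α)) - unitSec i L (hle α α') (res L inf_le_right (t α')) -
        unitSec i L (hle α α') (lin β (C α α') • res L inf_le_right (t α')) from
      ((map_sub (AddMonoidHom.mk' _ (LimTop61.unitSec_add i L (hle α α'))) _ _).trans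
        (congrArg (· - _) (map_sub (AddMonoidHom.mk' _ (LimTop61.unitSec_add i L (hle α α'))) _ _))),
      LimTop61.unitSec_smul, h2 α inf_le_left inf_le_left, h2 α' inf_le_right inf_le_right, appLE_lin β i hi,
      smul_smul] at h1
    rw [sub_smul, sub_smul]
    exact h1
  have hJmem : ∀ α α', resO X (inf_le_left : U α ⊓ U α' ≤ U α) (u α) - resO X inf_le_right (u α') ∈
      J.map (rA A X (U α ⊓ U α')) := by
    intro α α'
    have h1 := Ideal.map_mono (f := rA A X (U α ⊓ U α')) (Ideal.mul_le_right : m * J ≤ J) (hkey α α')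
    have h2 := Ideal.mul_mem_right (resO X (inf_le_right : U α ⊓ U α' ≤ U α') (u α')) _
      (lin_mem β fun l => i.appLE _ _ (hle α α') (C α α' l))
    convert Submodule.add_mem _ h1 h2 using 1
    ring
  obtain ⟨a, ha⟩ := const_mod h0 hU hcov n u hJmem
  -- the constant is a unit
  have hunit : IsUnit a := by
    by_contra hna
    have hu₀ : u α₀ ∈ m.map (rA A X (U α₀)) := by
      have h1 := Ideal.map_mono (f := rA A X (U α₀)) hJm (ha α₀)
      convert Submodule.add_mem _ h1 (Ideal.mem_map_of_mem (rA A X (U α₀)) (show a ∈ m from hna)) using 1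
      ring
    have hall : ∀ z : Γ(M, U α₀), z ∈ secI A m M (U α₀) := by
      intro z
      have hz : z ∈ Submodule.span Γ(X, U α₀) (Set.range (unitSec i L (hWU α₀))) := by
        rw [span_unitSec_eq_top i L (hW α₀) (hU α₀) (hWU α₀)]; trivial
      induction hz using Submodule.span_induction with
      | mem z hz =>
        obtain ⟨y, rfl⟩ := hz
        obtain ⟨c, hc⟩ := (ht α₀).exists_coef (hW α₀) y
        have h1 := unitSec_mem i hi (hWU α₀) hc
        have h2 : unitSec i L (hWU α₀) (c • t α₀) ∈ secI A m M (U α₀) := by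
          rw [LimTop61.unitSec_smul, ← hu α₀, smul_smul]
          exact smul_mem_secI' (Ideal.mul_mem_left _ _ hu₀) _
        have h3 := Submodule.add_mem _ h1 h2
        rwa [← LimTop61.unitSec_add, sub_add_cancel] at h3
      | zero => exact zero_mem _
      | add _ _ _ _ h h' => exact add_mem h h'
      | smul c _ _ h => exact Submodule.smul_mem _ c h
    have h1 : (1 : Γ(X, U α₀)) ∈ m.map (rA A X (U α₀)) :=
      secI_frame (hb (U α₀)) (by rw [one_smul]; exact hall _)
    let ev : Γ(X, U α₀) ⟶ CommRingCat.of A :=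
      x.appLE (U α₀) ⊤ hα₀.ge ≫ (Scheme.ΓSpecIso (CommRingCat.of A)).hom
    have hev : ∀ c : A, ev (rA A X (U α₀) c) = c := by
      intro c
      have h : CommRingCat.ofHom (rA A X (U α₀)) ≫ ev = 𝟙 _ := by
        rw [rA_eq_appLE]
        simp only [ev, Category.assoc]
        rw [reassoc_of% Scheme.Hom.appLE_comp_appLE]
        simp only [hx]
        rw [show (𝟙 (Spec (CommRingCat.of A)) : _ ⟶ _).appLE ⊤ ⊤ le_top = 𝟙 _ by
          rw [Scheme.Hom.appLE, Scheme.Hom.id_app]
          exact (Category.id_comp _).trans ((Spec (CommRingCat.of A)).presheaf.map_id _)]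
        rw [Category.id_comp, Iso.inv_hom_id]
      exact ConcreteCategory.congr_hom h c
    have h2 : (m.map (rA A X (U α₀))).map ev.hom ≤ m := by
      rw [Ideal.map_map]
      exact Ideal.map_le_iff_le_comap.2 fun c hc => by
        show ev (rA A X (U α₀) c) ∈ m
        rw [hev]; exact hc
    have h3 := h2 (Ideal.mem_map_of_mem ev.hom h1)
    rw [map_one] at h3
    exact (Ideal.ne_top_iff_one m).1 (IsLocalRing.maximalIdeal.isMaximal A).ne_top h3
  obtain ⟨au, rfl⟩ := hunit
  let b : A := ↑au⁻¹
  choose g hg using fun α => exists_lin β (ha α)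
  refine ⟨fun l α => rA A X (U α) b * g α l, fun l α α' => ⟨hle α α', ?_⟩⟩
  let O := U α ⊓ U α'
  let D : Fin β.r → Γ(X, O) := fun l => rA A X O ↑au * i.appLE _ _ (hle α α') (C α α' l) -
    (resO X inf_le_left (g α l) - resO X inf_le_right (g α' l))
  have hD : lin β D ∈ (m * J).map (rA A X O) := by
    have h1 := hkey α α'
    have h2 := resO_mem (inf_le_left : O ≤ U α) (hg α)
    have h3 := resO_mem (inf_le_right : O ≤ U α') (hg α')
    have h4 := resO_mem (inf_le_right : O ≤ U α') (Ideal.map_mono (f := rA A X (U α')) hJm (ha α'))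
    rw [resO_sub, resO_sub, resO_rA, res_lin] at h2 h3
    rw [resO_sub, resO_rA] at h4
    have h5 := Ideal.mul_mem_mul h4 (lin_mem β fun l => i.appLE _ _ (hle α α') (C α α' l))
    rw [← Ideal.map_mul] at h5
    have h6 := Submodule.sub_mem _ (Submodule.sub_mem _ h2 h3) (Submodule.add_mem _ h1 h5)
    convert h6 using 1
    rw [show D = (fun l => rA A X O ↑au * i.appLE _ _ (hle α α') (C α α' l)) -
      ((fun l => resO X (inf_le_left : O ≤ U α) (g α l)) - fun l => resO X (inf_le_right : O ≤ U α') (g α' l)) from rfl,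
      lin_sub, lin_sub]
    have e : lin β (fun l => rA A X O ↑au * i.appLE _ _ (hle α α') (C α α' l)) =
        rA A X O ↑au * lin β (fun l => i.appLE _ _ (hle α α') (C α α' l)) := by
      simp only [lin, Finset.mul_sum]
      exact Finset.sum_congr rfl fun l _ => mul_left_comm _ _ _
    rw [e]
    ring
  have h7 := Ideal.mul_mem_left _ (rA A X O b) (mem_of_lin_mem β
    (affine_inf (X ↘ Spec (CommRingCat.of A)) (hU α) (hU α')) D hD l)
  have hb1 : rA A X O b * rA A X O ↑au = 1 := by rw [← map_mul, Units.inv_mul, map_one]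
  convert h7 using 1
  have e1 : resO X (inf_le_left : O ≤ U α) (rA A X (U α) b * g α l) = rA A X O b * resO X inf_le_left (g α l) :=
    (map_mul (X.presheaf.map (homOfLE (inf_le_left : O ≤ U α)).op).hom _ _).trans (congrArg (· * _) (resO_rA A X _ b))
  have e2 : resO X (inf_le_right : O ≤ U α') (rA A X (U α') b * g α' l) = rA A X O b * resO X inf_le_right (g α' l) :=
    (map_mul (X.presheaf.map (homOfLE (inf_le_right : O ≤ U α')).op).hom _ _).trans (congrArg (· * _) (resO_rA A X _ b))
  rw [e1, e2]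
  simp only [D]
  linear_combination (i.appLE _ _ (hle α α') (C α α' l)) * hb1.symm

end Groth.Agent.Cube73
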