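import Mathlib.RingTheory.Flat.Basic
import Mathlib.RingTheory.Noetherian.Basic
import Mathlib.LinearAlgebra.FreeModule.Basic
import Mathlib.RingTheory.Ideal.Quotient.Basic
import Mathlib.LinearAlgebra.TensorProduct.RightExactness
import Mathlib.RingTheory.Ideal.Operations
import Mathlib.LinearAlgebra.TensorProduct.Quotient
import Mathlib.Algebra.Module.Torsion.Basic
import Mathlib.LinearAlgebra.Dimension.Free
import Mathlib.LinearAlgebra.Basis.VectorSpace

/-!
Small extensions: coordinates of `J R ⊆ R` modulo `mJ R`, for a flat `A`-algebra `R`.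
-/

set_option autoImplicit false
set_option linter.style.haveILetI false

universe u

open TensorProduct

namespace Groth.Agent.Cube73

variable {A : Type u} [CommRing A]

/-- A finite family in `J` with coordinate functionals, inducing a basis of `J/mJ`. -/
structure SmallBasis (m J : Ideal A) where
  r : ℕ
  b : Fin r → A
  mem : ∀ l, b l ∈ J
  φ : Fin r → (J →ₗ[A] A ⧸ m)
  delta : ∀ l l', φ l ⟨b l', mem l'⟩ = if l = l' then 1 else 0
  gen : ∀ j ∈ J, ∃ a : Fin r → A, j - ∑ l, a l * b l ∈ m * J

theorem exists_smallBasis [IsNoetherianRing A] (m J : Ideal A) [hm : m.IsMaximal] : Nonempty (SmallBasis m J) := by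
  classical
  letI := Ideal.Quotient.field m
  let Q := (↥J) ⧸ (m • ⊤ : Submodule A J)
  haveI : Module.Finite A J := Module.Finite.of_fg (IsNoetherian.noetherian J)
  haveI : Module.Finite (A ⧸ m) Q := Module.Finite.of_restrictScalars_finite A (A ⧸ m) Q
  let B := Module.finBasis (A ⧸ m) Q
  choose v hv using fun l => Submodule.Quotient.mk_surjective _ (B l)
  refine ⟨⟨_, fun l => (v l : A), fun l => (v l).2,
    fun l => ((B.coord l).restrictScalars A) ∘ₗ (Submodule.mkQ _), fun l l' => ?_, fun j hj => ?_⟩⟩
  · show B.coord l (Submodule.Quotient.mk (⟨(v l' : A), _⟩ : J)) = _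
    rw [show (⟨(v l' : A), (v l').2⟩ : J) = v l' from rfl, hv, Module.Basis.coord_apply, B.repr_self,
      Finsupp.single_apply]
    exact if_congr eq_comm rfl rfl
  · let q : Q := Submodule.Quotient.mk ⟨j, hj⟩
    choose a ha using fun l => Ideal.Quotient.mk_surjective (B.repr q l)
    refine ⟨a, ?_⟩
    have h : Submodule.Quotient.mk ((⟨j, hj⟩ : J) - ∑ l, a l • v l) = (0 : Q) := by
      rw [Submodule.Quotient.mk_sub, sub_eq_zero]
      conv_lhs => rw [show Submodule.Quotient.mk (⟨j, hj⟩ : J) = q from rfl, ← B.sum_repr q]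
      rw [show (Submodule.Quotient.mk (∑ l, a l • v l) : Q) = (Submodule.mkQ _) (∑ l, a l • v l) from rfl, map_sum]
      refine Finset.sum_congr rfl fun l _ => ?_
      rw [map_smul, Submodule.mkQ_apply, hv, ← ha l]
      rfl
    have h' := (Submodule.Quotient.mk_eq_zero _).1 h
    have h2 := Submodule.mem_map_of_mem (f := J.subtype) h'
    rw [Submodule.map_smul'', Submodule.map_top, Submodule.range_subtype] at h2
    simpa [Finset.sum_apply] using h2

variable {m J : Ideal A} (β : SmallBasis m J) {R : Type u} [CommRing R] [Algebra A R]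
  {M : Type u} [AddCommGroup M] [Module A M] [Module R M] [IsScalarTower A R M]

omit [IsScalarTower A R M] in
theorem sum_mem_span (x : Fin β.r → M) : ∑ l, β.b l • x l ∈ J • (⊤ : Submodule A M) :=
  Submodule.sum_mem _ fun l _ => Submodule.smul_mem_smul (β.mem l) trivial

omit [IsScalarTower A R M] in
include β in
theorem exists_coords {x : M} (hx : x ∈ J • (⊤ : Submodule A M)) :
    ∃ c : Fin β.r → M, x - ∑ l, β.b l • c l ∈ (m * J) • (⊤ : Submodule A M) := by
  refine Submodule.smul_induction_on hx (fun j hj y _ => ?_) fun x y hx hy => ?_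
  · obtain ⟨a, ha⟩ := β.gen j hj
    refine ⟨fun l => a l • y, ?_⟩
    have e : j • y - ∑ l, β.b l • a l • y = (j - ∑ l, a l * β.b l) • y := by
      rw [sub_smul, Finset.sum_smul]
      simp only [smul_smul, mul_comm]
    rw [e]
    exact Submodule.smul_mem_smul ha trivial
  · obtain ⟨c, hc⟩ := hx
    obtain ⟨d, hd⟩ := hy
    refine ⟨c + d, ?_⟩
    have e : x + y - ∑ l, β.b l • (c + d) l = (x - ∑ l, β.b l • c l) + (y - ∑ l, β.b l • d l) := by
      simp only [Pi.add_apply, smul_add, Finset.sum_add_distrib]; abel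
    rw [e]
    exact add_mem hc hd

omit [IsScalarTower A R M] in
/-- Coordinates are well defined modulo `m` when `M` is flat. -/
theorem coords_mem [Module.Flat A M] (c : Fin β.r → M)
    (hc : ∑ l, β.b l • c l ∈ (m * J) • (⊤ : Submodule A M)) (l : Fin β.r) :
    c l ∈ m • (⊤ : Submodule A M) := by
  classical
  have hex : ∃ w : ↥J ⊗[A] M, TensorProduct.lid A M (J.subtype.rTensor M w) = ∑ l, β.b l • c l ∧
      (β.φ l).rTensor M w = 0 := by
    refine Submodule.smul_induction_on hc (fun j hj y _ => ?_) fun x y hx hy => ?_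
    · have hjJ : j ∈ J := Ideal.mul_le_right hj
      refine ⟨(⟨j, hjJ⟩ : J) ⊗ₜ y, by simp, ?_⟩
      have : β.φ l ⟨j, hjJ⟩ = 0 := by
        have hk : ∀ z : J, (z : A) ∈ m * J → β.φ l z = 0 := by
          intro z hz
          have : z ∈ m • (⊤ : Submodule A J) := by
            have h2 : (z : A) ∈ Submodule.map J.subtype (m • ⊤ : Submodule A J) := by
              rwa [Submodule.map_smul'', Submodule.map_top, Submodule.range_subtype]
            obtain ⟨z', hz', e⟩ := h2
            rwa [Subtype.ext e] at hz'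
          refine Submodule.smul_induction_on this (fun a ha n _ => ?_) fun a b ha hb => by simp [ha, hb]
          rw [map_smul, Algebra.smul_def, Ideal.Quotient.algebraMap_eq, Ideal.Quotient.eq_zero_iff_mem.2 ha, zero_mul]
        exact hk _ hj
      rw [LinearMap.rTensor_tmul, this, TensorProduct.zero_tmul]
    · obtain ⟨w, hw, hw'⟩ := hx
      obtain ⟨v, hv, hv'⟩ := hy
      exact ⟨w + v, by rw [map_add, map_add, hw, hv], by rw [map_add, hw', hv', add_zero]⟩
  obtain ⟨w, hw, hw'⟩ := hex
  have hw2 : w = ∑ l', (⟨β.b l', β.mem l'⟩ : J) ⊗ₜ[A] c l' := by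
    refine ((TensorProduct.lid A M).injective.comp
      (Module.Flat.rTensor_preserves_injective_linearMap (M := M) J.subtype (Submodule.injective_subtype J))) ?_
    simp [hw, map_sum]
  have h0 : (1 : A ⧸ m) ⊗ₜ[A] c l = 0 := by
    rw [hw2, map_sum] at hw'
    rw [← hw', Finset.sum_eq_single l]
    · rw [LinearMap.rTensor_tmul, β.delta, if_pos rfl]
    · intro l' _ hl'
      rw [LinearMap.rTensor_tmul, β.delta, if_neg (Ne.symm hl'), TensorProduct.zero_tmul]
    · intro h; exact absurd (Finset.mem_univ l) h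
  have := congrArg (TensorProduct.quotTensorEquivQuotSMul M m) h0
  rw [map_zero, ← map_one (Ideal.Quotient.mk m), TensorProduct.quotTensorEquivQuotSMul_mk_tmul, one_smul] at this
  exact (Submodule.Quotient.mk_eq_zero _).1 this

end Groth.Agent.Cube73
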