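import Groth.Agent.Cube73.Slice

/-!
The inductive step: a trivialisation modulo `m ^ n` of a module trivial on both slices lifts modulo
`m ^ (n + 1)`.
-/

set_option autoImplicit false
set_option maxSynthPendingDepth 6
set_option linter.style.haveILetI false
set_option linter.unusedSectionVars false
set_option backward.isDefEq.respectTransparency.types false

noncomputable section

universe u

open CategoryTheory Limits AlgebraicGeometry TopologicalSpace Opposite TensorProduct
open Groth.Agent.Var76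

namespace Groth.Agent.Cube73

open QC70 FF71 QCPull72

variable {A : Type u} [CommRing A] [IsNoetherianRing A] [IsLocalRing A]

theorem secI_le {Z : Scheme.{u}} [Z.Over (Spec (CommRingCat.of A))] {M : Z.Modules} {J K : Ideal A} (h : J ≤ K)
    (V : Z.Opens) : secI A J M V ≤ secI A K M V :=
  Submodule.smul_mono_left (Ideal.map_mono h)

/-- The data of two flat proper schemes over a local ring with sections, and a module on the product
trivial on both slices, with covers by affine opens. -/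
structure Setup (X Y P : Scheme.{u}) [X.Over (Spec (CommRingCat.of A))] [Y.Over (Spec (CommRingCat.of A))]
    [P.Over (Spec (CommRingCat.of A))] (L : P.Modules) where
  a : P ⟶ X
  b : P ⟶ Y
  H : IsPullback a b (X ↘ Spec (CommRingCat.of A)) (Y ↘ Spec (CommRingCat.of A))
  ha : a ≫ (X ↘ Spec (CommRingCat.of A)) = P ↘ Spec (CommRingCat.of A)
  hb : b ≫ (Y ↘ Spec (CommRingCat.of A)) = P ↘ Spec (CommRingCat.of A)
  x : Spec (CommRingCat.of A) ⟶ X
  hx : x ≫ (X ↘ Spec (CommRingCat.of A)) = 𝟙 _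
  y : Spec (CommRingCat.of A) ⟶ Y
  hy : y ≫ (Y ↘ Spec (CommRingCat.of A)) = 𝟙 _
  ix : Y ⟶ P
  hix : ix ≫ a = (Y ↘ Spec (CommRingCat.of A)) ≫ x
  hix' : ix ≫ b = 𝟙 Y
  iy : X ⟶ P
  hiy : iy ≫ b = (X ↘ Spec (CommRingCat.of A)) ≫ y
  hiy' : iy ≫ a = 𝟙 X
  h0X : Function.Bijective (fibq X (IsLocalRing.maximalIdeal A)).appTop
  h0Y : Function.Bijective (fibq Y (IsLocalRing.maximalIdeal A)).appTop
  hL : FlatMod.IsFinLocFree L
  eX : Γ((Scheme.Modules.pullback iy).obj L, ⊤)
  heX : LineBundle.IsFrame ((Scheme.Modules.pullback iy).obj L) ⊤ eX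
  eY : Γ((Scheme.Modules.pullback ix).obj L, ⊤)
  heY : LineBundle.IsFrame ((Scheme.Modules.pullback ix).obj L) ⊤ eY
  nX : ℕ
  nY : ℕ
  U : Fin nX → X.Opens
  V : Fin nY → Y.Opens
  hU : ∀ α, IsAffineOpen (U α)
  hV : ∀ k, IsAffineOpen (V k)
  hcov : ∀ t : X, ∃ α, t ∈ U α
  hVcov : ∀ t : Y, ∃ k, t ∈ V k
  α₀ : Fin nX
  hα₀ : x ⁻¹ᵁ U α₀ = ⊤
  k₀ : Fin nY
  hk₀ : y ⁻¹ᵁ V k₀ = ⊤

variable {X Y P : Scheme.{u}} [X.Over (Spec (CommRingCat.of A))] [Y.Over (Spec (CommRingCat.of A))]
  [P.Over (Spec (CommRingCat.of A))] [Flat (X ↘ Spec (CommRingCat.of A))] [Flat (Y ↘ Spec (CommRingCat.of A))]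
  [Flat (P ↘ Spec (CommRingCat.of A))] [IsSeparated (X ↘ Spec (CommRingCat.of A))]
  [IsSeparated (Y ↘ Spec (CommRingCat.of A))] [QuasiCompact (Y ↘ Spec (CommRingCat.of A))]
  {L : P.Modules} (S : Setup (A := A) X Y P L)

/-- The members of the product cover. -/
abbrev Setup.W (i : Fin S.nX × Fin S.nY) : P.Opens := W2 S.a S.b S.U S.V i

/-- A trivialisation of `L` modulo `m ^ n`. -/
def Setup.Triv (n : ℕ) (t : ∀ i, Γ(L, S.W i)) : Prop :=
  (∀ i, FMod (IsLocalRing.maximalIdeal A) L (t i)) ∧ ∀ i j,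
    res L inf_le_left (t i) - res L inf_le_right (t j) ∈
      secI A (IsLocalRing.maximalIdeal A ^ n) L (S.W i ⊓ S.W j)

theorem Setup.step {n : ℕ} (hn : n ≠ 0) (t : ∀ i, Γ(L, S.W i)) (ht : S.Triv n t) :
    ∃ t' : ∀ i, Γ(L, S.W i), S.Triv (n + 1) t' ∧
      ∀ i, t' i - t i ∈ secI A (IsLocalRing.maximalIdeal A ^ n) L (S.W i) := by
  let m := IsLocalRing.maximalIdeal A
  let J := m ^ n
  have hJm : J ≤ m := Ideal.pow_le_self hn
  haveI := Props58.LocFree.isQuasicoherent_of_isFinLocFree S.hL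
  obtain ⟨β⟩ := exists_smallBasis m J
  have haff : ∀ i, IsAffineOpen (S.W i) := fun i => affine_box S.H (S.hU i.1) (S.hV i.2)
  have haff2 : ∀ i j, IsAffineOpen (S.W i ⊓ S.W j) := fun i j => by
    rw [box_inf]
    exact affine_box S.H (affine_inf (X ↘ Spec (CommRingCat.of A)) (S.hU i.1) (S.hU j.1))
      (affine_inf (Y ↘ Spec (CommRingCat.of A)) (S.hV i.2) (S.hV j.2))
  choose C hC using fun i j => ((ht.1 j).res (inf_le_right : S.W i ⊓ S.W j ≤ S.W j)).exists_lin (haff2 i j) β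
    (ht.2 i j)
  -- the obstruction is a cocycle modulo `m`
  have hcoc : ∀ (i j k : Fin S.nX × Fin S.nY) (l : Fin β.r),
      resO P (le_inf (inf_le_left.trans inf_le_left) (inf_le_left.trans inf_le_right)) (C i j l) +
        resO P (le_inf (inf_le_left.trans inf_le_right) inf_le_right) (C j k l) -
        resO P (le_inf (inf_le_left.trans inf_le_left) inf_le_right) (C i k l) ∈
      m.map (rA A P ((S.W i ⊓ S.W j) ⊓ S.W k)) := by
    intro i j k
    let O := (S.W i ⊓ S.W j) ⊓ S.W k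
    have hi : O ≤ S.W i := inf_le_left.trans inf_le_left
    have hj : O ≤ S.W j := inf_le_left.trans inf_le_right
    have hk : O ≤ S.W k := inf_le_right
    have hO : IsAffineOpen O := by
      show IsAffineOpen ((box _ _ _ _ ⊓ box _ _ _ _) ⊓ box _ _ _ _)
      rw [box_inf, box_inf]
      exact affine_box S.H (affine_inf (X ↘ Spec (CommRingCat.of A)) (affine_inf (X ↘ Spec (CommRingCat.of A))
        (S.hU i.1) (S.hU j.1)) (S.hU k.1)) (affine_inf (Y ↘ Spec (CommRingCat.of A))
        (affine_inf (Y ↘ Spec (CommRingCat.of A)) (S.hV i.2) (S.hV j.2)) (S.hV k.2))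
    intro l
    refine ((ht.1 k).res hk).lin_coef_mem hO β S.hL
      (C := fun l => resO P (le_inf hi hj) (C i j l) + resO P (le_inf hj hk) (C j k l) - resO P (le_inf hi hk) (C i k l)) ?_ l
    have h1 := res_mem_secI (le_inf hi hj) (hC i j)
    have h2 := res_mem_secI (le_inf hj hk) (hC j k)
    have h3 := res_mem_secI (le_inf hi hk) (hC i k)
    have hsub : ∀ {V V' : P.Opens} (h : V' ≤ V) (p q : Γ(L, V)), res L h (p - q) = res L h p - res L h q :=
      fun h p q => map_sub (L.presheaf.map (homOfLE h).op).hom p q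
    simp only [hsub, QC70.res_smul, QC70.res_res, res_lin] at h1 h2 h3
    have h4 := smul_secI (lin_mem β fun l => resO P (le_inf hi hj) (C i j l)) (res_mem_secI (le_inf hj hk) (ht.2 j k))
    simp only [hsub, QC70.res_res] at h4
    have h5 : lin β (fun l => resO P (le_inf hi hj) (C i j l)) • (res L hj (t j) - res L hk (t k)) ∈
        secI A (m * J) L O := secI_le (M := L) (Ideal.mul_mono_left hJm) O h4
    have h6 := Submodule.sub_mem _ (Submodule.sub_mem _ h3 (Submodule.add_mem _ h1 h2)) h5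
    convert h6 using 1
    rw [show (fun l => resO P (le_inf hi hj) (C i j l) + resO P (le_inf hj hk) (C j k l) - resO P (le_inf hi hk) (C i k l)) =
      (fun l => resO P (le_inf hi hj) (C i j l)) + (fun l => resO P (le_inf hj hk) (C j k l)) -
        (fun l => resO P (le_inf hi hk) (C i k l)) from rfl, lin_sub, lin_add, sub_smul, add_smul, smul_sub]
    abel
  -- it is a coboundary on both slices
  have hiyS : S.iy ≫ (P ↘ Spec (CommRingCat.of A)) = X ↘ Spec (CommRingCat.of A) := by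
    rw [← S.ha, ← Category.assoc, S.hiy', Category.id_comp]
  have hixS : S.ix ≫ (P ↘ Spec (CommRingCat.of A)) = Y ↘ Spec (CommRingCat.of A) := by
    rw [← S.hb, ← Category.assoc, S.hix', Category.id_comp]
  have hUW : ∀ α, S.U α ≤ S.iy ⁻¹ᵁ S.W (α, S.k₀) := fun α z hz => by
    refine ⟨show (S.iy ≫ S.a) z ∈ S.U α by rw [S.hiy']; exact hz, show (S.iy ≫ S.b) z ∈ S.V S.k₀ from ?_⟩
    rw [S.hiy]
    show (X ↘ Spec (CommRingCat.of A)) z ∈ S.y ⁻¹ᵁ S.V S.k₀
    rw [S.hk₀]; trivial
  have hVW : ∀ k, S.V k ≤ S.ix ⁻¹ᵁ S.W (S.α₀, k) := fun k z hz => by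
    refine ⟨show (S.ix ≫ S.a) z ∈ S.U S.α₀ from ?_, show (S.ix ≫ S.b) z ∈ S.V k by rw [S.hix']; exact hz⟩
    rw [S.hix]
    show (Y ↘ Spec (CommRingCat.of A)) z ∈ S.x ⁻¹ᵁ S.U S.α₀
    rw [S.hα₀]; trivial
  obtain ⟨s, hs⟩ := slice_coboundary (n := n) S.h0X S.x S.hx S.iy hiyS L S.eX S.heX S.hU S.hcov S.α₀ S.hα₀
    (fun α => haff (α, S.k₀)) hUW (fun α => t (α, S.k₀)) (fun α => ht.1 _) hn β
    (fun α α' => C (α, S.k₀) (α', S.k₀)) fun α α' => hC _ _
  obtain ⟨r, hr⟩ := slice_coboundary (n := n) S.h0Y S.y S.hy S.ix hixS L S.eY S.heY S.hV S.hVcov S.k₀ S.hk₀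
    (fun k => haff (S.α₀, k)) hVW (fun k => t (S.α₀, k)) (fun k => ht.1 _) hn β
    (fun k k' => C (S.α₀, k) (S.α₀, k')) fun k k' => hC _ _
  choose h hh using fun l => coboundary_mod m S.H S.ha S.hb S.h0X S.h0Y S.x S.hx S.y S.hy S.ix S.hix S.hix'
    S.iy S.hiy S.hiy' S.hU S.hcov S.hV S.hVcov S.α₀ S.hα₀ S.k₀ S.hk₀ (fun i j => C i j l)
    (fun i j k => hcoc i j k l) (r l) (hr l) (s l) (hs l)
  refine ⟨fun i => t i - lin β (fun l => h l i) • t i, ⟨fun i => ?_, fun i j => ?_⟩, fun i => ?_⟩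
  · have h0 : Amp73.pullS (fibι P m) L (S.W i) (t i - lin β (fun l => h l i) • t i) =
        Amp73.pullS (fibι P m) L (S.W i) (t i) := by
      have h1 : lin β (fun l => h l i) • t i ∈ secI A m L (S.W i) :=
        smul_mem_secI' (Ideal.map_mono hJm (lin_mem β _)) _
      have h2 : Amp73.pullS (fibι P m) L (S.W i) (t i - lin β (fun l => h l i) • t i) =
        Amp73.pullS (fibι P m) L (S.W i) (t i) - Amp73.pullS (fibι P m) L (S.W i) (lin β (fun l => h l i) • t i) :=
        map_sub (((Scheme.Modules.pullbackPushforwardAdjunction (fibι P m)).unit.app L).app (S.W i)).hom _ _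
      rw [h2, ((sec_fib m (haff i)).2 _).2 h1, sub_zero]
    show LineBundle.IsFrame _ _ (Amp73.pullS (fibι P m) L (S.W i) (t i - lin β (fun l => h l i) • t i))
    rw [h0]
    exact ht.1 i
  · rw [pow_succ']
    let O := S.W i ⊓ S.W j
    have hsub : ∀ {V V' : P.Opens} (h : V' ≤ V) (p q : Γ(L, V)), res L h (p - q) = res L h p - res L h q :=
      fun h p q => map_sub (L.presheaf.map (homOfLE h).op).hom p q
    simp only [hsub, QC70.res_smul, res_lin]
    have hbr : lin β (fun l => C i j l - (resO P (inf_le_left : O ≤ _) (h l i) - resO P (inf_le_right : O ≤ _) (h l j))) ∈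
        (m * J).map (rA A P O) := lin_mem_of_mem β _ fun l => hh l i j
    have h1 := hC i j
    have h2 := smul_mem_secI' (M := L) hbr (res L (inf_le_right : O ≤ S.W j) (t j))
    have h3 : lin β (fun l => resO P (inf_le_left : O ≤ S.W i) (h l i)) • (res L (inf_le_left : O ≤ S.W i) (t i) - res L inf_le_right (t j)) ∈
        secI A (m * J) L O := secI_le (M := L) (Ideal.mul_mono_left hJm) O (smul_secI (lin_mem β _) (ht.2 i j))
    have h6 := Submodule.sub_mem _ (Submodule.add_mem _ h1 h2) h3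
    convert h6 using 1
    rw [show (fun l => C i j l - (resO P (inf_le_left : O ≤ _) (h l i) - resO P (inf_le_right : O ≤ _) (h l j))) =
      C i j - ((fun l => resO P (inf_le_left : O ≤ S.W i) (h l i)) - fun l => resO P (inf_le_right : O ≤ S.W j) (h l j)) from rfl,
      lin_sub, lin_sub]
    simp only [sub_smul, smul_sub]
    abel
  · show t i - lin β (fun l => h l i) • t i - t i ∈ _
    rw [sub_sub_cancel_left]
    exact Submodule.neg_mem _ (smul_mem_secI' (lin_mem β _) _)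

end Groth.Agent.Cube73
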